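/-
An alternating space tensored with an orthogonal space of dimension at least four, over any field of odd
characteristic: contractions of the first factor, members of the stabiliser of the decomposition, tensor subspaces.
-/
import Cfsg.Agent.Lib.SympOrth.Setup
import Cfsg.Agent.Lib.TensorMax.SBase
import Cfsg.Agent.Lib.Transvec.AltMaximal
import Cfsg.Agent.Lib.Transvec.SubfieldSymp
import Cfsg.Agent.Lib.Transvec.OrthWreathTools
import Cfsg.Agent.Lib.OrthTensor.Base

set_option autoImplicit false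
set_option linter.all false

namespace Cfsg.Agent.SympTensorGen

open scoped Matrix Kronecker
open Matrix Cfsg.Agent.Transvec Cfsg.Agent.TensorMax
open Cfsg.Agent.TensorMax.U (kr mv_kr_ten isKron_kr mv_kron_ten ext_ten_mv frow)

variable {α β : Type} [Fintype α] [DecidableEq α] [Fintype β] [DecidableEq β] {F : Type*} [Field F]

/-- The contraction with v in the first factor. -/
def piv (f₁ : (α → F) → (α → F) → F) (v : α → F) : (α × β → F) →ₗ[F] β → F := ctrL (frow f₁ v)

/-- An overgroup of the stabiliser of the decomposition inside the isometry group. -/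
structure Ctx (f : (α × β → F) → (α × β → F) → F) (f₁ : (α → F) → (α → F) → F) (Q : (β → F) → F)
    (M : Subgroup (GL (α × β) F)) : Prop where
  hf : Geo.IsSymplecticForm f
  h₁ : Geo.IsSymplecticForm f₁
  hQ : Geo.IsNondegenerateQuadraticForm Q
  hpol : ∀ u w v z, f (ten u w) (ten v z) = f₁ u v * Orth.pol Q w z
  h2 : (2 : F) ≠ 0
  h4 : 4 ≤ Fintype.card β
  le : M ≤ preserving (Units.coeHom (Matrix (α × β) (α × β) F)) f
  kron : ∀ g, IsKron g → g ∈ preserving (Units.coeHom (Matrix (α × β) (α × β) F)) f → g ∈ M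

variable {f : (α × β → F) → (α × β → F) → F} {f₁ : (α → F) → (α → F) → F} {Q : (β → F) → F}
variable {M : Subgroup (GL (α × β) F)}

theorem piv_ten (C : Ctx f f₁ Q M) (v u : α → F) (w : β → F) :
    piv f₁ v (ten u w) = f₁ u v • w := by
  rw [piv, ctrL_ten, TensorMax.S.frow_dot C.h₁]

theorem piv_add (C : Ctx f f₁ Q M) (v v' : α → F) (x : α × β → F) :
    piv f₁ (v + v') x = piv f₁ v x + piv f₁ v' x :=
  LinearMap.congr_fun (show (piv f₁ (v + v') : (α × β → F) →ₗ[F] β → F) = piv f₁ v + piv f₁ v' from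
    ext_ten fun u w => by
      rw [LinearMap.add_apply, piv_ten C, piv_ten C, piv_ten C, C.h₁.bilinear.add_right, add_smul]) x

theorem piv_smul (C : Ctx f f₁ Q M) (a : F) (v : α → F) (x : α × β → F) :
    piv f₁ (a • v) x = a • piv f₁ v x :=
  LinearMap.congr_fun (show (piv f₁ (a • v) : (α × β → F) →ₗ[F] β → F) = a • piv f₁ v from
    ext_ten fun u w => by
      rw [LinearMap.smul_apply, piv_ten C, piv_ten C, C.h₁.bilinear.smul_right, mul_smul]) x

theorem piv_sub (C : Ctx f f₁ Q M) (v v' : α → F) (x : α × β → F) :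
    piv f₁ (v - v') x = piv f₁ v x - piv f₁ v' x := by
  rw [sub_eq_add_neg, piv_add C, ← neg_one_smul F v', piv_smul C, neg_one_smul, sub_eq_add_neg]

theorem f_ten (C : Ctx f f₁ Q M) (x : α × β → F) (v : α → F) (z : β → F) :
    f x (ten v z) = Orth.pol Q (piv f₁ v x) z :=
  LinearMap.congr_fun (show formR C.hf (ten v z) = (Orth.formQ C.hQ z).comp (piv f₁ v) from
    ext_ten fun u w => by
      rw [formR_apply, C.hpol, LinearMap.comp_apply, Orth.formQ_apply, piv_ten C,
        Orth.pol_smul_left C.hQ]) x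

theorem Ctx.iso (C : Ctx f f₁ Q M) {g : GL (α × β) F} (hg : g ∈ M) (x y : α × β → F) :
    f (mv g x) (mv g y) = f x y :=
  C.le hg x y

theorem Ctx.iso_inv (C : Ctx f f₁ Q M) {g : GL (α × β) F} (hg : g ∈ M) (x y : α × β → F) :
    f (mv g x) y = f x (mv g⁻¹ y) := by
  rw [← C.iso hg x (mv g⁻¹ y), mv_mv_inv]

theorem eq_of_pol (C : Ctx f f₁ Q M) {a b : β → F} (h : ∀ z, Orth.pol Q a z = Orth.pol Q b z) : a = b := by
  rw [← sub_eq_zero]
  by_contra hne
  obtain ⟨-, z, hz⟩ := C.hQ.nondegenerate _ hne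
  apply hz
  show Orth.pol Q _ z = 0
  rw [Orth.pol_sub_left C.hQ, h, sub_self]

theorem eq_zero_of_piv (C : Ctx f f₁ Q M) {y : α × β → F} (h : ∀ v, piv f₁ v y = 0) : y = 0 := by
  by_contra hne
  obtain ⟨-, x, hx⟩ := C.hf.nondegenerate y hne
  apply hx
  rw [← formR_apply C.hf]
  refine LinearMap.congr_fun (show (LinearMap.applyₗ y).comp (formR C.hf) = 0 from ext_ten fun v z => ?_) x
  show formR C.hf (ten v z) y = 0
  rw [formR_apply, f_ten C, h, Orth.pol_zero_left C.hQ]

/-- Vectors of a line are recognised by the contractions with the orthogonal space. -/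
theorem mem_line (C : Ctx f f₁ Q M) {e d : α → F} (hde : f₁ d e = 1) {y : α × β → F}
    (h : ∀ v, f₁ v e = 0 → piv f₁ v y = 0) : y = -ten e (piv f₁ d y) := by
  have he : f₁ e d = -1 := by rw [C.h₁.skew, hde]
  rw [← add_eq_zero_iff_eq_neg]
  refine eq_zero_of_piv C fun v => ?_
  have hv : v = (v - f₁ v e • d) + f₁ v e • d := by abel
  have h0 : f₁ (v - f₁ v e • d) e = 0 := by
    rw [f_sub_left C.h₁, C.h₁.bilinear.smul_left, hde, mul_one, sub_self]
  have h1 : f₁ e (v - f₁ v e • d) = 0 := (f_eq_zero_comm C.h₁).1 h0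
  rw [hv, piv_add C, map_add, map_add, h _ h0, piv_ten C, h1, zero_smul, piv_smul C, piv_smul C, piv_ten C, he]
  module

theorem kr_iso (C : Ctx f f₁ Q M) (A : GL α F) (G : GL β F) (hA : ∀ u v, f₁ (mv A u) (mv A v) = f₁ u v)
    (hG : ∀ p q, Orth.pol Q (mv G p) (mv G q) = Orth.pol Q p q) (x y : α × β → F) :
    f (mv (kr A G) x) (mv (kr A G) y) = f x y := by
  have h1 : ∀ v z x, f (mv (kr A G) x) (mv (kr A G) (ten v z)) = f x (ten v z) := by
    intro v z x
    have e : (formR C.hf (mv (kr A G) (ten v z))).comp (mvLin (kr A G)) = formR C.hf (ten v z) :=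
      ext_ten fun u w => by
        rw [LinearMap.comp_apply, Matrix.toLin'_apply, formR_apply, formR_apply]
        show f (mv (kr A G) (ten u w)) _ = _
        rw [mv_kr_ten, mv_kr_ten, C.hpol, C.hpol, hA, hG]
    have := LinearMap.congr_fun e x
    rwa [LinearMap.comp_apply, Matrix.toLin'_apply, formR_apply, formR_apply] at this
  have e2 : (LinearMap.applyₗ (mv (kr A G) x)).comp ((formR C.hf).comp (mvLin (kr A G))) =
      (LinearMap.applyₗ x).comp (formR C.hf) := ext_ten fun v z => by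
    show formR C.hf (mvLin (kr A G) (ten v z)) (mv (kr A G) x) = formR C.hf (ten v z) x
    rw [Matrix.toLin'_apply, formR_apply, formR_apply]
    exact h1 v z x
  have := LinearMap.congr_fun e2 y
  simp only [LinearMap.comp_apply, LinearMap.applyₗ_apply_apply, formR_apply, Matrix.toLin'_apply] at this
  exact this

theorem Ctx.kr_mem (C : Ctx f f₁ Q M) (A : GL α F) (G : GL β F) (hA : ∀ u v, f₁ (mv A u) (mv A v) = f₁ u v)
    (hG : ∀ p q, Orth.pol Q (mv G p) (mv G q) = Orth.pol Q p q) : kr A G ∈ M :=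
  C.kron _ (isKron_kr _ _) fun x y => kr_iso C A G hA hG x y

theorem mv_one_pol (p q : β → F) : Orth.pol Q (mv (1 : GL β F) p) (mv (1 : GL β F) q) = Orth.pol Q p q := by
  rw [mv_one, mv_one]

theorem mv_one_f (u v : α → F) : f₁ (mv (1 : GL α F) u) (mv (1 : GL α F) v) = f₁ u v := by
  rw [mv_one, mv_one]

theorem piv_kr (C : Ctx f f₁ Q M) (A : GL α F) (G : GL β F) (hA : ∀ u v, f₁ (mv A u) (mv A v) = f₁ u v)
    (v : α → F) (x : α × β → F) : piv f₁ v (mv (kr A G) x) = mv G (piv f₁ (mv A⁻¹ v) x) := by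
  have e : (piv f₁ v).comp (mvLin (kr A G)) =
      ((mvLin G).comp (piv f₁ (mv A⁻¹ v)) : (α × β → F) →ₗ[F] β → F) := ext_ten fun u w => by
    rw [LinearMap.comp_apply, LinearMap.comp_apply, Matrix.toLin'_apply, Matrix.toLin'_apply]
    show piv f₁ v (mv (kr A G) (ten u w)) = mv G (piv f₁ _ (ten u w))
    rw [mv_kr_ten, piv_ten C, piv_ten C, mv_smul, ← hA u (mv A⁻¹ v), mv_mv_inv]
  have := LinearMap.congr_fun e x
  rwa [LinearMap.comp_apply, LinearMap.comp_apply, Matrix.toLin'_apply, Matrix.toLin'_apply] at this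

/-- The transvection of the first factor. -/
noncomputable def tA (C : Ctx f f₁ Q M) (v : α → F) (s : F) : GL (α × β) F :=
  kr (stv C.h₁ v s) 1

theorem stv_iso (C : Ctx f f₁ Q M) (v : α → F) (s : F) (u u' : α → F) :
    f₁ (mv (stv C.h₁ v s) u) (mv (stv C.h₁ v s) u') = f₁ u u' := stv_mem C.h₁ v s u u'

theorem tA_mem (C : Ctx f f₁ Q M) (v : α → F) (s : F) : tA C v s ∈ M :=
  C.kr_mem _ _ (stv_iso C v s) mv_one_pol

theorem mv_tA (C : Ctx f f₁ Q M) (v : α → F) (s : F) (x : α × β → F) :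
    mv (tA C v s) x = x + s • ten v (piv f₁ v x) := by
  have e : mvLin (tA C v s) = LinearMap.id + s • (lam v).comp (piv f₁ v) := ext_ten fun u w => by
    rw [Matrix.toLin'_apply, LinearMap.add_apply, LinearMap.id_apply, LinearMap.smul_apply, LinearMap.comp_apply,
      lam_apply, piv_ten C]
    show mv (tA C v s) (ten u w) = _
    rw [tA, mv_kr_ten, mv_one, mv_stv, ten_add_left, ten_smul_left, ten_smul_right, smul_smul]
  have := LinearMap.congr_fun e x
  rwa [Matrix.toLin'_apply] at this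

theorem tA_inv (C : Ctx f f₁ Q M) (v : α → F) (s : F) : (tA C v s)⁻¹ = tA C v (-s) :=
  inv_eq_of_mul_eq_one_right (ext_mv fun x => by
    rw [mv_mul, mv_tA, mv_tA, map_add, map_smul, piv_ten C, C.h₁.alternating, zero_smul, smul_zero, add_zero,
      mv_one]
    module)

/-- The isometries of the second factor. -/
noncomputable def tB (G : GL β F) : GL (α × β) F := kr 1 G

theorem tB_mem (C : Ctx f f₁ Q M) {G : GL β F} (hG : G ∈ isometryGroup F Q) : (tB G : GL (α × β) F) ∈ M :=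
  C.kr_mem _ _ mv_one_f fun p q => Orth.pol_mv C.hQ hG p q

theorem tB_ten (G : GL β F) (u : α → F) (p : β → F) : mv (tB G : GL (α × β) F) (ten u p) = ten u (mv G p) := by
  rw [tB, mv_kr_ten, mv_one]

theorem piv_tB (C : Ctx f f₁ Q M) (G : GL β F) (v : α → F) (x : α × β → F) :
    piv f₁ v (mv (tB G) x) = mv G (piv f₁ v x) := by
  rw [tB, piv_kr C _ _ mv_one_f, inv_one, mv_one]

theorem tB_mul (G H : GL β F) : (tB (G * H) : GL (α × β) F) = tB G * tB H :=
  ext_ten_mv fun u w => by rw [mv_mul, tB_ten, tB_ten, tB_ten, mv_mul]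

theorem tB_one : (tB (1 : GL β F) : GL (α × β) F) = 1 :=
  ext_ten_mv fun u w => by rw [tB_ten, mv_one, mv_one]

theorem refl_invol (hQ : Geo.IsNondegenerateQuadraticForm Q) {w : β → F} {G : GL β F}
    (hG : Orth.IsRefl Q G w) : G * G = 1 := ext_mv fun p => by
  have hw := hG.1
  rw [mv_mul, mv_one, hG.2 p, hG.2, Orth.pol_sub_left hQ, Orth.pol_smul_left hQ, Orth.pol_self hQ]
  match_scalars
  · rfl
  · field_simp; ring

/-! ### The second factor -/

theorem Ctx.h3 (C : Ctx f f₁ Q M) : 3 ≤ Fintype.card β := le_trans (by norm_num) C.h4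

/-- A hyperbolic pair and two further orthogonal vectors. -/
theorem exists_frame [Finite F] (C : Ctx f f₁ Q M) {c : β → F} (hc0 : c ≠ 0) (hc : Q c = 0) :
    ∃ d u v : β → F, Q d = 0 ∧ Orth.pol Q c d = 1 ∧ Orth.pol Q u c = 0 ∧ Orth.pol Q u d = 0 ∧
      Orth.pol Q v c = 0 ∧ Orth.pol Q v d = 0 ∧ Q u ≠ 0 ∧ Q v ≠ 0 ∧ Orth.pol Q u v = 0 := by
  obtain ⟨d, hd, hcd⟩ := OrthTensor.exists_pair C.hQ hc0 hc
  obtain ⟨hXn, hXf, hXm⟩ := OrthTensor.pair_perp C.hQ hc hd hcd
  obtain ⟨u, huX, huQ⟩ := Orth.exists_anisotropic C.hQ hXn fun h => by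
    rw [h, finrank_bot] at hXf; have := C.h4; omega
  obtain ⟨hYn, hYf⟩ := Orth.nondeg_perp C.hQ C.h2 hXn huX huQ
  obtain ⟨v, hvY, hvQ⟩ := Orth.exists_anisotropic C.hQ hYn fun h => by
    rw [h, finrank_bot] at hYf; have := C.h4; omega
  obtain ⟨huc, hud⟩ := (hXm u).1 huX
  obtain ⟨hvc, hvd⟩ := (hXm v).1 hvY.1
  exact ⟨d, u, v, hd, hcd, huc, hud, hvc, hvd, huQ, hvQ, hvY.2 u (Submodule.mem_span_singleton_self u)⟩

/-- A hyperbolic pair and an orthogonal anisotropic vector. -/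
theorem exists_hyp [Finite F] (C : Ctx f f₁ Q M) :
    ∃ c d u : β → F, Q c = 0 ∧ Q d = 0 ∧ Orth.pol Q c d = 1 ∧ Orth.pol Q u c = 0 ∧ Orth.pol Q u d = 0 ∧
      Q u ≠ 0 := by
  obtain ⟨c, -, hc0, hc⟩ := Orth.exists_singular C.hQ (X := ⊤) (by rw [finrank_top, Module.finrank_pi]; exact C.h3)
  obtain ⟨d, u, v, hd, hcd, huc, hud, -, -, hu, -⟩ := exists_frame C hc0 hc
  exact ⟨c, d, u, hc, hd, hcd, huc, hud, hu⟩

/-- The vectors all of whose contractions lie in a subspace of the second factor. -/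
def tsp (f₁ : (α → F) → (α → F) → F) (U : Submodule F (β → F)) : Submodule F (α × β → F) :=
  ⨅ v : α → F, U.comap (piv f₁ v)

theorem mem_tsp {U : Submodule F (β → F)} {x : α × β → F} : x ∈ tsp f₁ U ↔ ∀ v, piv f₁ v x ∈ U := by
  simp [tsp]

theorem ten_mem_tsp (C : Ctx f f₁ Q M) {U : Submodule F (β → F)} (a : α → F) {w : β → F} (hw : w ∈ U) :
    ten a w ∈ tsp f₁ U := mem_tsp.2 fun v => by rw [piv_ten C]; exact U.smul_mem _ hw

end Cfsg.Agent.SympTensorGen
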