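/-
Members stabilising a line are Kronecker products.
-/
import Cfsg.Agent.Lib.SympTensorGen.Radical

set_option autoImplicit false
set_option linter.all false

namespace Cfsg.Agent.SympTensorGen

open scoped Matrix Kronecker
open Matrix Cfsg.Agent.Transvec Cfsg.Agent.TensorMax
open Cfsg.Agent.TensorMax.U (kr mv_kr_ten)

variable {α β : Type} [Fintype α] [DecidableEq α] [Fintype β] [DecidableEq β] {F : Type*} [Field F]
variable {f : (α × β → F) → (α × β → F) → F} {f₁ : (α → F) → (α → F) → F} {Q : (β → F) → F}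
variable {M : Subgroup (GL (α × β) F)}

/-- A member stabilising a line is a product. -/
theorem stab_kron [Finite F] (C : Ctx f f₁ Q M)  
    (hne : M ≠ preserving (Units.coeHom (Matrix (α × β) (α × β) F)) f) {e d : α → F} (hde : f₁ d e = 1)
    {g : GL (α × β) F} (hg : g ∈ M) (hline : ∀ p : β → F, ∃ q, mv g (ten e p) = ten e q) : IsKron g := by
  have hQ := C.hQ
  have h2 := C.h2
  have he : f₁ e d = -1 := by rw [C.h₁.skew, hde]
  have he0 : e ≠ 0 := fun h => by
    rw [h, f_zero_right C.h₁] at hde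
    exact zero_ne_one hde
  set G : (β → F) →ₗ[F] β → F := -((piv f₁ d).comp ((mvLin g).comp (lam e))) with hGdef
  have hG : ∀ p, mv g (ten e p) = ten e (G p) := fun p => by
    obtain ⟨q, hq⟩ := hline p
    rw [hq]
    congr 1
    simp only [hGdef, LinearMap.neg_apply, LinearMap.comp_apply, Matrix.toLin'_apply, lam_apply]
    show q = -piv f₁ d (mv g (ten e p))
    rw [hq, piv_ten C, he]
    simp
  have hGinj : Function.Injective G := fun a b hab => by
    have := congrArg (piv f₁ d) (mv_inj g (show mv g (ten e a) = mv g (ten e b) by rw [hG, hG, hab]))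
    rw [piv_ten C, piv_ten C, he, neg_one_smul, neg_one_smul, neg_inj] at this
    exact this
  have hGsurj : Function.Surjective G := LinearMap.injective_iff_surjective.1 hGinj
  set H : (β → F) →ₗ[F] β → F := (piv f₁ e).comp ((mvLin g⁻¹).comp (lam d)) with hHdef
  have hadj : ∀ x z, Orth.pol Q (piv f₁ e (mv g⁻¹ x)) z = Orth.pol Q (piv f₁ e x) (G z) := fun x z => by
    rw [← f_ten C, ← f_ten C, ← hG, ← C.iso hg (mv g⁻¹ x) (ten e z), mv_mv_inv]
  have hH : ∀ x, H (piv f₁ e x) = piv f₁ e (mv g⁻¹ x) := fun x => eq_of_pol C fun z => by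
    simp only [hHdef, LinearMap.comp_apply, Matrix.toLin'_apply, lam_apply]
    show Orth.pol Q (piv f₁ e (mv g⁻¹ (ten d _))) z = _
    rw [hadj, hadj, piv_ten C, hde, one_smul]
  have hHd : ∀ p, H p = piv f₁ e (mv g⁻¹ (ten d p)) := fun p => by rw [← hH, piv_ten C, hde, one_smul]
  obtain ⟨μ, hμS⟩ := short_scalar C hne he0 (S := G.comp H) ⟨g * tA C e 1 * g⁻¹,
    M.mul_mem (M.mul_mem hg (tA_mem C e 1)) (M.inv_mem hg), fun x => by
      rw [mv_mul, mv_mul, mv_tA, one_smul, mv_add, mv_mv_inv, hG, LinearMap.comp_apply, hH]⟩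
  have hGH : ∀ z, G (H z) = μ • z := fun z => LinearMap.congr_fun hμS z
  have hHG : ∀ p, H (G p) = μ • p := fun p => hGinj (by rw [hGH, map_smul])
  have hsim : ∀ p q, Orth.pol Q (G p) (G q) = μ * Orth.pol Q p q := fun p q => by
    have := hadj (ten d (G p)) q
    rwa [← hHd, hHG, piv_ten C, hde, one_smul, Orth.pol_smul_left hQ, eq_comm] at this
  have hμ : μ ≠ 0 := by
    intro h0
    obtain ⟨c, d', u, -, -, hcd, -, -, -⟩ := exists_hyp C
    have hc : c ≠ 0 := fun h => by rw [h, Orth.pol_zero_left hQ] at hcd; exact zero_ne_one hcd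
    obtain ⟨y, hy⟩ := (hQ.nondegenerate (G c) fun h => hc (hGinj (h.trans (map_zero G).symm))).1
    obtain ⟨y', rfl⟩ := hGsurj y
    apply hy
    show Orth.pol Q _ _ = 0
    rw [hsim, h0, zero_mul]
  have hQG : ∀ p, Q (G p) = μ * Q p := fun p => by
    have := hsim p p
    rw [Orth.pol_self hQ, Orth.pol_self hQ] at this
    exact mul_left_cancel₀ h2 (by linear_combination this)
  have htop : ∀ x, piv f₁ e x = 0 → piv f₁ e (mv g x) = 0 := fun x hx => eq_of_pol C fun z => by
    obtain ⟨z', rfl⟩ := hGsurj z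
    rw [Orth.pol_zero_left hQ, ← f_ten C, ← hG, C.iso hg, f_ten C, hx, Orth.pol_zero_left hQ]
  have htopi : ∀ x, piv f₁ e x = 0 → piv f₁ e (mv g⁻¹ x) = 0 := fun x hx => by rw [← hH, hx, map_zero]
  have hev : ∀ v, f₁ v e = 0 → f₁ e v = 0 := fun v hv => (f_eq_zero_comm C.h₁).1 hv
  have hXv : ∀ v, f₁ v e = 0 → ∀ y : α × β → F, (∀ w, f₁ w e = 0 → piv f₁ w y = 0) → piv f₁ v (mv g y) = 0 := by
    intro v hv y hy
    rw [mem_line C hde hy, ← neg_one_smul F (ten e _), mv_smul, hG, map_smul, piv_ten C, hev v hv, zero_smul,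
      smul_zero]
  have hGi : ∀ q, ∃ q', mv g⁻¹ (ten e q) = ten e q' := fun q => by
    obtain ⟨q', rfl⟩ := hGsurj q
    exact ⟨q', by rw [← hG, mv_inv_mv]⟩
  -- shears give scalar middles
  have hscal : ∀ u, f₁ u e = 0 → ∀ v, f₁ v e = 0 → ∃ c : F, ∀ q, piv f₁ v (mv g (ten u q)) = c • G q := by
    intro u hu v hv
    obtain ⟨E, hE, hEm⟩ := exists_shear C hu
    have hk : Rad f₁ M e (g * E * g⁻¹) := by
      refine ⟨M.mul_mem (M.mul_mem hg hE.mem) (M.inv_mem hg), fun q => ?_, fun x hx w hw => ?_⟩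
      · obtain ⟨q', hq'⟩ := hGi q
        rw [mv_mul, mv_mul, hq', hE.fix, ← hq', mv_mv_inv]
      · have h0 := htopi x hx
        rw [mv_mul, mv_mul, show mv E (mv g⁻¹ x) = mv g⁻¹ x + (mv E (mv g⁻¹ x) - mv g⁻¹ x) by abel, mv_add,
          mv_mv_inv, map_add, hXv w hw _ (fun w' hw' => by rw [map_sub, hE.mid _ h0 w' hw', sub_self]), add_zero]
    obtain ⟨c, hc⟩ := mid_scalar C hne hde hk hv
    refine ⟨c / μ, fun q => ?_⟩
    have e1 := LinearMap.congr_fun hc (G q)
    set y := mv g⁻¹ (ten d (G q)) with hy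
    have hyp : piv f₁ e y = μ • q := by rw [hy, ← hH, piv_ten C, hde, one_smul, hHG]
    have e2 : ∀ w, f₁ w e = 0 → piv f₁ w (mv E y - y - μ • ten u q) = 0 := fun w hw => by
      rw [map_sub, map_sub, hE.piv_mid C hde hw, hEm w hw d hde, hyp]
      simp only [map_smul, piv_ten C, LinearMap.smul_apply, LinearMap.id_apply]
      module
    have e3 := hXv v hv _ e2
    rw [mv_sub, mv_sub, mv_smul, map_sub, map_sub, map_smul, sub_eq_zero] at e3
    rw [mm_apply, mv_mul, mv_mul, ← hy, LinearMap.smul_apply, LinearMap.id_apply] at e1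
    rw [hy, mv_mv_inv, piv_ten C, ← hy] at e3
    rw [e1] at e3
    rw [← inv_smul_smul₀ hμ (piv f₁ v (mv g (ten u q))), ← e3, smul_smul, div_eq_inv_mul]
  -- reflections
  obtain ⟨_, _, w₀, -, -, -, -, -, hw₀⟩ := exists_hyp C
  have hrefl : ∀ w, Q w ≠ 0 → ∀ R, R ∈ isometryGroup F Q → Orth.IsRefl Q R w → ∀ R', R' ∈ isometryGroup F Q →
      Orth.IsRefl Q R' (G w) → g * tB R = tB R' * g := by
    intro w hw R hR hRr R' hR' hR'r
    have hRG : ∀ q, G (mv R q) = mv R' (G q) := fun q => by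
      rw [hRr.2, hR'r.2, map_sub, map_smul, hsim, hQG, mul_div_mul_left _ _ hμ]
    have hR2 := refl_invol hQ hRr
    have hR'2 := refl_invol hQ hR'r
    have hB'2 : (tB R' : GL (α × β) F) * tB R' = 1 := by rw [← tB_mul, hR'2, tB_one]
    have hcom : ∀ v, f₁ v e = 0 → ∀ y, piv f₁ e y = 0 →
        piv f₁ v (mv g (mv (tB R) y)) = mv R' (piv f₁ v (mv g y)) := by
      intro v hv y hy
      set P : (α × β → F) →ₗ[F] α × β → F := LinearMap.id - (lam d).comp (piv f₁ e) with hP
      have hPt : ∀ a q, P (ten a q) = ten (a - f₁ a e • d) q := fun a q => by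
        rw [hP, LinearMap.sub_apply, LinearMap.id_apply, LinearMap.comp_apply, piv_ten C, lam_apply,
          ten_smul_right, ← ten_smul_left, ← ten_sub_left]
      have e1 : (piv f₁ v).comp ((mvLin g).comp ((mvLin (tB R)).comp P)) =
          (mvLin R').comp ((piv f₁ v).comp ((mvLin g).comp P)) := ext_ten fun a q => by
        simp only [LinearMap.comp_apply, Matrix.toLin'_apply, hPt]
        show piv f₁ v (mv g (mv (tB R) _)) = mv R' (piv f₁ v (mv g _))
        obtain ⟨c, hc⟩ := hscal (a - f₁ a e • d)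
          (by rw [f_sub_left C.h₁, C.h₁.bilinear.smul_left, hde, mul_one, sub_self]) v hv
        rw [tB_ten, hc, hc, hRG, mv_smul]
      have hPy : P y = y := by
        rw [hP, LinearMap.sub_apply, LinearMap.id_apply, LinearMap.comp_apply, hy, map_zero, sub_zero]
      have := LinearMap.congr_fun e1 y
      simp only [LinearMap.comp_apply, Matrix.toLin'_apply, hPy] at this
      exact this
    obtain ⟨c, hc⟩ : ∃ t, t = g * tB R * g⁻¹ * tB R' := ⟨_, rfl⟩
    have hcM : c ∈ M := hc ▸ M.mul_mem (M.mul_mem (M.mul_mem hg (tB_mem C hR)) (M.inv_mem hg)) (tB_mem C hR')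
    have hcr : Rad f₁ M e c := by
      refine ⟨hcM, fun q => ?_, fun x hx v hv => ?_⟩
      · obtain ⟨q₀, rfl⟩ := hGsurj q
        rw [hc, mv_mul, mv_mul, mv_mul, tB_ten, ← hRG, ← hG, mv_inv_mv, tB_ten, ← mv_mul R R, hR2, mv_one]
        exact hG q₀
      · have h0 : piv f₁ e (mv g⁻¹ (mv (tB R') x)) = 0 := htopi _ (by rw [piv_tB C, hx, mv_zero])
        rw [hc, mv_mul, mv_mul, mv_mul, hcom v hv _ h0, mv_mv_inv, piv_tB C, ← mv_mul R' R', hR'2, mv_one]
    obtain ⟨c₂, hc₂⟩ : ∃ t, t = tB R' * c * tB R' := ⟨_, rfl⟩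
    have hc₂r : Rad f₁ M e c₂ := by
      refine ⟨hc₂ ▸ M.mul_mem (M.mul_mem (tB_mem C hR') hcM) (tB_mem C hR'), fun q => ?_, fun x hx v hv => ?_⟩
      · rw [hc₂, mv_mul, mv_mul, tB_ten, hcr.fix, tB_ten, ← mv_mul, hR'2, mv_one]
      · rw [hc₂, mv_mul, mv_mul, piv_tB C, hcr.mid _ (by rw [piv_tB C, hx, mv_zero]) v hv, piv_tB C, ← mv_mul,
          hR'2, mv_one]
    have h0 : ∀ v, f₁ v e = 0 → mm f₁ d v (c₂ * c⁻¹) = 0 := fun v hv => by
      rw [mid_mul C hde hc₂r (hcr.inv C) hv, mid_inv C hde hcr hv, add_neg_eq_zero]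
      obtain ⟨k, hk⟩ := mid_scalar C hne hde hcr hv
      refine LinearMap.ext fun p => ?_
      have h1 := LinearMap.congr_fun hk (mv R' p)
      rw [mm_apply, LinearMap.smul_apply, LinearMap.id_apply, sub_eq_iff_eq_add] at h1
      rw [hk, mm_apply, hc₂, mv_mul, mv_mul, tB_ten, piv_tB C, h1, mv_add, mv_smul, mv_smul, ← mv_mul, hR'2,
        mv_one, LinearMap.smul_apply, LinearMap.id_apply, add_sub_cancel_right]
    obtain ⟨S, hS, hSv⟩ := (hc₂r.mul C (hcr.inv C)).short C hde h0
    obtain ⟨s, rfl⟩ := short_scalar C hne he0 hS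
    have hc2 : c₂ = tA C e s * c := ext_mv fun x => by
      have := hSv (mv c x)
      rw [mv_mul, mv_inv_mv, LinearMap.smul_apply, LinearMap.id_apply, ten_smul_right] at this
      rw [mv_mul, mv_tA, this]
    have hcomm : tB R' * tA C e s = tA C e s * tB R' := ext_mv fun x => by
      rw [mv_mul, mv_mul, mv_tA, mv_tA, piv_tB C, mv_add, mv_smul, tB_ten]
    have hs : s = 0 := by
      have h' : tB R' * c₂ * tB R' = c := by
        rw [hc₂, ← mul_assoc, ← mul_assoc, hB'2, one_mul, mul_assoc, hB'2, mul_one]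
      rw [hc2, ← mul_assoc, hcomm, mul_assoc (tA C e s), mul_assoc (tA C e s),
        ← hc₂, hc2, ← mul_assoc, mul_eq_right] at h'
      have := congrArg (piv f₁ d) (congrArg (fun t => mv t (ten d w₀)) h')
      simp only [mv_mul, mv_one, mv_tA, map_add, map_smul, piv_ten C, C.h₁.alternating, zero_smul, hde, he,
        zero_add, one_smul, smul_zero, add_zero] at this
      have h' : (2 * s) • w₀ = 0 := by linear_combination (norm := module) -this
      exact (mul_eq_zero.1 ((smul_eq_zero.1 h').resolve_right fun h => hw₀ (by rw [h, Orth.q_zero hQ]))).resolve_left h2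
    have hT0 : tA C e s = 1 := ext_mv fun x => by rw [mv_tA, hs, zero_smul, add_zero, mv_one]
    rw [hT0, one_mul] at hc2
    have hsq : c * c = 1 := by
      nth_rewrite 2 [← hc2]
      rw [hc₂, ← mul_assoc, ← mul_assoc]
      have e1 : c * tB R' = g * tB R * g⁻¹ := by rw [hc, mul_assoc, hB'2, mul_one]
      rw [e1, mul_assoc (g * tB R * g⁻¹), e1, show g * tB R * g⁻¹ * (g * tB R * g⁻¹) = g * (tB R * tB R) * g⁻¹ by group,
        ← tB_mul, hR2, tB_one, mul_one, mul_inv_cancel]
    have hc1 : c = 1 := ext_mv fun x => by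
      rw [mv_one, ← sub_eq_zero]
      set D := mv c x - x with hD
      have hD0 : piv f₁ e D = 0 := by rw [hD, map_sub, hcr.piv_top C, sub_self]
      set D2 := mv c D - D with hD2
      have hD3 : mv c D2 = D2 := by
        rw [mem_line C hde (y := D2) (fun v hv => by rw [hD2, map_sub, hcr.mid D hD0 v hv, sub_self]),
          ← neg_one_smul F (ten e _), mv_smul, hcr.fix]
      have e2 : D2 + D + D = 0 := by
        have hxx : mv c (mv c x) = x := by rw [← mv_mul, hsq, mv_one]
        rw [hD2, hD, mv_sub, hxx]; abel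
      have e3 : D2 = 0 := by
        have h := congrArg (mv c) e2
        rw [mv_add, mv_add, hD3, mv_zero, show mv c D = D2 + D by rw [hD2]; abel] at h
        have h' : (2 : F) • D2 = 0 := by linear_combination (norm := module) h - e2
        exact (smul_eq_zero.1 h').resolve_left h2
      rw [e3, zero_add] at e2
      exact (smul_eq_zero.1 (show (2 : F) • D = 0 by rw [two_smul]; exact e2)).resolve_left h2
    have hfin := hc1
    rw [hc, mul_eq_one_iff_eq_inv, inv_eq_of_mul_eq_one_right hB'2] at hfin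
    rw [← hfin]
    group
  -- lines
  have dual : ∀ w : β → F, ∃ ψ : β → F, ∀ p, ψ ⬝ᵥ p = Orth.pol Q p w := fun w =>
    ⟨fun i => Orth.pol Q (Pi.single i 1) w, fun p => by
      show _ = Orth.formQ hQ w p
      conv_rhs => rw [pi_eq_sum_univ' p, map_sum]
      simp [dotProduct, Orth.formQ_apply, mul_comm, Orth.pol_smul_left hQ]⟩
  choose ψ hψ using dual
  set A : (β → F) → (α → F) →ₗ[F] α → F := fun w =>
    (μ * (2 * Q w))⁻¹ • (ctr (ψ (G w))).comp ((mvLin g).comp (rho w)) with hA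
  have main : ∀ w, Q w ≠ 0 → ∀ u p, Orth.pol Q p w • mv g (ten u w) =
      μ⁻¹ • ten (ctr (ψ (G w)) (mv g (ten u p))) (G w) := by
    intro w hw u p
    obtain ⟨R, hR, hRr⟩ := Orth.exists_refl hQ hw
    obtain ⟨R', hR', hR'r⟩ := Orth.exists_refl hQ (show Q (G w) ≠ 0 by rw [hQG]; exact mul_ne_zero hμ hw)
    have e1 := congrArg (fun t => mv t (ten u p)) (hrefl w hw R hR hRr R' hR' hR'r)
    have hΦ : mvLin (tB R' : GL (α × β) F) =
        LinearMap.id - (Q (G w))⁻¹ • (rho (G w)).comp (ctr (ψ (G w))) := ext_ten fun a q => by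
      rw [Matrix.toLin'_apply, LinearMap.sub_apply, LinearMap.id_apply, LinearMap.smul_apply, LinearMap.comp_apply,
        rho_apply, ctr_ten, hψ]
      show mv (tB R') (ten a q) = _
      rw [tB_ten, hR'r.2, sub_eq_add_neg, ten_add_right, ← neg_smul, ten_smul_right, ten_smul_left, smul_smul,
        neg_smul, ← sub_eq_add_neg, div_eq_inv_mul]
    have e2 := LinearMap.congr_fun hΦ (mv g (ten u p))
    rw [Matrix.toLin'_apply, LinearMap.sub_apply, LinearMap.id_apply, LinearMap.smul_apply, LinearMap.comp_apply,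
      rho_apply] at e2
    simp only [mv_mul] at e1
    rw [show mv (tB R') (mv g (ten u p)) = _ from e2, tB_ten, hRr.2, sub_eq_add_neg, ten_add_right, ← neg_smul,
      ten_smul_right, mv_add, mv_smul, hQG] at e1
    have e3 : (Orth.pol Q p w / Q w) • mv g (ten u w) = (μ * Q w)⁻¹ • ten (ctr (ψ (G w)) (mv g (ten u p))) (G w) := by
      linear_combination (norm := module) -e1
    have := congrArg (Q w • ·) e3
    simp only [smul_smul] at this
    rwa [mul_div_cancel₀ _ hw, show Q w * (μ * Q w)⁻¹ = μ⁻¹ by field_simp] at this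
  have hline' : ∀ w, Q w ≠ 0 → ∀ u, mv g (ten u w) = ten (A w u) (G w) := by
    intro w hw u
    have h' : 2 * Q w ≠ 0 := mul_ne_zero h2 hw
    have := congrArg ((2 * Q w)⁻¹ • ·) (main w hw u w)
    simp only [Orth.pol_self hQ, smul_smul, inv_mul_cancel₀ h', one_smul] at this
    rw [this, show (2 * Q w)⁻¹ * μ⁻¹ = (μ * (2 * Q w))⁻¹ by field_simp]
    simp only [hA, LinearMap.smul_apply, LinearMap.comp_apply, Matrix.toLin'_apply, rho_apply, ten_smul_left]
  have hsame : ∀ w p, Q w ≠ 0 → Q p ≠ 0 → Orth.pol Q p w ≠ 0 → A w = A p := by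
    intro w p hw hp hpw
    refine LinearMap.ext fun u => ?_
    have := main w hw u p
    rw [hline' w hw, hline' p hp, ctr_ten, hψ, hsim, ← ten_smul_left, ← ten_smul_left, smul_smul, ← mul_assoc,
      inv_mul_cancel₀ hμ, one_mul] at this
    have hGw : G w ≠ 0 := fun h => hw (by rw [hGinj (h.trans (map_zero G).symm), Orth.q_zero hQ])
    rw [← sub_eq_zero, ← ten_sub_left, ← smul_sub] at this
    by_contra hne'
    exact ten_ne_zero (smul_ne_zero hpw (sub_ne_zero.2 hne')) hGw this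
  have h3' : 3 ≤ Module.finrank F (⊤ : Submodule F (β → F)) := by rw [finrank_top, Module.finrank_pi]; exact C.h3
  haveI : Nonempty α := by
    by_contra h
    haveI := not_nonempty_iff.1 h
    exact he0 (Subsingleton.elim _ _)
  haveI : Nonempty β := Fintype.card_pos_iff.1 (by have := C.h4; omega)
  refine isKron_of_ten (LinearMap.toMatrix' (A w₀)) (LinearMap.toMatrix' G) fun u p => ?_
  rw [LinearMap.toMatrix'_mulVec, LinearMap.toMatrix'_mulVec]
  have hle : (⊤ : Submodule F (β → F)) ≤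
      LinearMap.ker ((mvLin g).comp (lam u) - (lam (A w₀ u)).comp G) :=
    SympOrth.forall_of_nonsing hQ h2 (Orth.nondeg_top hQ) fun z _ hz => by
      obtain ⟨y, -, hy, hy1, hy2⟩ := SympOrth.exists_connect hQ h2 (Orth.nondeg_top hQ) h3'
        (Submodule.mem_top (x := w₀)) (Submodule.mem_top (x := z)) hw₀ hz
      rw [LinearMap.mem_ker, LinearMap.sub_apply, LinearMap.comp_apply, LinearMap.comp_apply, lam_apply, lam_apply,
        Matrix.toLin'_apply, hsame w₀ y hw₀ hy (by rwa [Orth.pol_comm]), hsame y z hy hz hy2, sub_eq_zero]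
      exact hline' z hz u
  have := hle (Submodule.mem_top (x := p))
  rw [LinearMap.mem_ker, LinearMap.sub_apply, sub_eq_zero, LinearMap.comp_apply, LinearMap.comp_apply, lam_apply,
    lam_apply, Matrix.toLin'_apply] at this
  exact this

/-- A member mapping a line to a line is a product. -/
theorem line_kron [Finite F] (C : Ctx f f₁ Q M)
    (hne : M ≠ preserving (Units.coeHom (Matrix (α × β) (α × β) F)) f) {e e' : α → F} (he : e ≠ 0) (he' : e' ≠ 0)
    {g : GL (α × β) F} (hg : g ∈ M) (hline : ∀ p : β → F, ∃ q, mv g (ten e p) = ten e' q) : IsKron g := by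
  obtain ⟨A, hA, hAe, -⟩ := exists_move_nondeg C.h₁ (nondeg_top C.h₁)
    (K := preserving (Units.coeHom (Matrix α α F)) f₁) (fun v _ c => stv_mem C.h₁ v c) Submodule.mem_top
    Submodule.mem_top he' he
  obtain ⟨d₀, hd₀⟩ := (C.h₁.nondegenerate e he).1
  have hde : f₁ ((f₁ d₀ e)⁻¹ • d₀) e = 1 := by rw [C.h₁.bilinear.smul_left, inv_mul_cancel₀ hd₀]
  have hk : kr A (1 : GL β F) ∈ M := C.kr_mem A 1 (fun u v => hA u v) mv_one_pol
  have h := stab_kron C hne hde (M.mul_mem hk hg) fun p => by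
    obtain ⟨q, hq⟩ := hline p
    exact ⟨q, by rw [mv_mul, hq, mv_kr_ten, mv_one, hAe]⟩
  simpa [mul_assoc] using TensorMax.U.isKron_mul (TensorMax.U.isKron_inv (TensorMax.U.isKron_kr A (1 : GL β F))) h

end Cfsg.Agent.SympTensorGen
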