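/-
Rows of the subspaces attached to subspaces of the second factor.
-/
import Cfsg.Agent.Lib.SympTensorGen.Stab

set_option autoImplicit false
set_option linter.all false

namespace Cfsg.Agent.SympTensorGen

open scoped Matrix Kronecker
open Matrix Cfsg.Agent.Transvec Cfsg.Agent.TensorMax
open Cfsg.Agent.TensorMax.U (kr mv_kr_ten)

variable {α β : Type} [Fintype α] [DecidableEq α] [Fintype β] [DecidableEq β] {F : Type*} [Field F]
variable {f : (α × β → F) → (α × β → F) → F} {f₁ : (α → F) → (α → F) → F} {Q : (β → F) → F}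
variable {M : Subgroup (GL (α × β) F)}

theorem exists_row (C : Ctx f f₁ Q M) (a : α) : ∃ z : α → F, ∀ x : α × β → F, piv f₁ z x = fun k => x (a, k) := by
  obtain ⟨z, hz⟩ := Transvec.exists_eq_f C.h₁ (LinearMap.proj a)
  refine ⟨z, fun x => ?_⟩
  exact LinearMap.congr_fun (show piv f₁ z = (LinearMap.funLeft F F fun k => (a, k) : (α × β → F) →ₗ[F] β → F) from
    ext_ten fun u w => by
      rw [piv_ten C, ← hz]
      funext k
      simp [LinearMap.funLeft_apply, ten]) x

theorem row_mem (C : Ctx f f₁ Q M) {U : Submodule F (β → F)} {y : α × β → F} (hy : y ∈ tsp f₁ U) (a : α) :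
    (fun k => y (a, k)) ∈ U := by
  obtain ⟨z, hz⟩ := exists_row C a
  rw [← hz]
  exact mem_tsp.1 hy z

theorem eq_sum_rows (y : α × β → F) : y = ∑ a, ten (Pi.single a 1) (fun k => y (a, k)) := by
  funext ⟨i, j⟩
  rw [Finset.sum_apply, Finset.sum_eq_single i]
  · simp [ten]
  · intro b _ hb
    simp [ten, Pi.single_eq_of_ne hb.symm]
  · simp

theorem tsp_le (C : Ctx f f₁ Q M) {U : Submodule F (β → F)} {W : Submodule F (α × β → F)}
    (h : ∀ a, ∀ l ∈ U, ten a l ∈ W) : tsp f₁ U ≤ W := fun y hy => by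
  rw [eq_sum_rows y]
  exact Submodule.sum_mem _ fun a _ => h _ _ (row_mem C hy a)

theorem finrank_tsp_le (C : Ctx f f₁ Q M) (U : Submodule F (β → F)) :
    Module.finrank F (tsp f₁ U) ≤ Fintype.card α * Module.finrank F U := by
  let Φ : (tsp f₁ U) →ₗ[F] α → U :=
    { toFun := fun y a => ⟨fun k => (y : α × β → F) (a, k), row_mem C y.2 a⟩
      map_add' := fun y y' => by funext a; exact Subtype.ext rfl
      map_smul' := fun c y => by funext a; exact Subtype.ext rfl }
  have hinj : Function.Injective Φ := fun y y' h => Subtype.ext (funext fun ⟨a, k⟩ =>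
    congrFun (congrArg Subtype.val (congrFun h a)) k)
  have := LinearMap.finrank_le_finrank_of_injective hinj
  rwa [Module.finrank_pi_fintype, Finset.sum_const, Finset.card_univ, smul_eq_mul] at this

theorem tB_fix (C : Ctx f f₁ Q M) {G : GL β F} {U : Submodule F (β → F)} (hG : ∀ l ∈ U, mv G l = l)
    {y : α × β → F} (hy : y ∈ tsp f₁ U) : mv (tB G) y = y := by
  rw [← sub_eq_zero]
  exact eq_zero_of_piv C fun a => by rw [map_sub, piv_tB C, hG _ (mem_tsp.1 hy a), sub_self]

end Cfsg.Agent.SympTensorGen
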