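/-
A member conjugating a transvection of the first factor to a product is a product.
-/
import Cfsg.Agent.Lib.SympTensorGen.Tsp

set_option autoImplicit false
set_option linter.all false

namespace Cfsg.Agent.SympTensorGen

open scoped Matrix Kronecker
open Matrix Cfsg.Agent.Transvec Cfsg.Agent.TensorMax
open Cfsg.Agent.TensorMax.U (kr mv_kr_ten)

variable {α β : Type} [Fintype α] [DecidableEq α] [Fintype β] [DecidableEq β] {F : Type*} [Field F]
variable {f : (α × β → F) → (α × β → F) → F} {f₁ : (α → F) → (α → F) → F} {Q : (β → F) → F}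
variable {M : Subgroup (GL (α × β) F)}

theorem ten_sub_right (u : α → F) (w w' : β → F) : ten u (w - w') = ten u w - ten u w' :=
  map_sub (lam u) w w'

/-- Of two factors with a square zero displacement one is scalar. -/
theorem scalar_or_scalar {A : GL α F} {G : GL β F} (h2 : (2 : F) ≠ 0)
    (h : ∀ u w, ten (mv A (mv A u)) (mv G (mv G w)) - (2 : F) • ten (mv A u) (mv G w) + ten u w = 0) :
    (∃ c : F, ∀ u, mv A u = c • u) ∨ ∃ c : F, ∀ w, mv G w = c • w := by
  by_cases hG : ∀ w : β → F, ¬ LinearIndependent F ![w, mv G w]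
  · obtain ⟨c, hc⟩ := LinearMap.exists_eq_smul_id_of_forall_notLinearIndependent (f := mvLin G)
      (fun w => by rw [Matrix.toLin'_apply]; exact hG w)
    exact Or.inr ⟨c, fun w => by
      have := LinearMap.congr_fun hc w
      rwa [Matrix.toLin'_apply, LinearMap.smul_apply, Module.End.one_apply] at this⟩
  push Not at hG
  obtain ⟨w, hw⟩ := hG
  obtain ⟨φ, hφ1, hφ2⟩ : ∃ φ : Module.Dual F (β → F), φ w = 0 ∧ φ (mv G w) = 1 := by
    have hnot : mv G w ∉ Submodule.span F {w} := by
      intro hm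
      obtain ⟨c, hc⟩ := Submodule.mem_span_singleton.1 hm
      exact ((LinearIndependent.pair_iff.1 hw) c (-1) (by rw [hc, neg_one_smul, add_neg_cancel])).2 |>
        neg_ne_zero.2 one_ne_zero
    obtain ⟨φ, hφ0, hφ⟩ := Submodule.exists_dual_map_eq_bot_of_notMem hnot inferInstance
    refine ⟨(φ (mv G w))⁻¹ • φ, ?_, ?_⟩
    · have : φ w ∈ (Submodule.span F {w}).map φ := Submodule.mem_map_of_mem (Submodule.mem_span_singleton_self w)
      rw [hφ, Submodule.mem_bot] at this
      rw [LinearMap.smul_apply, this, smul_zero]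
    · rw [LinearMap.smul_apply, smul_eq_mul, inv_mul_cancel₀ hφ0]
  obtain ⟨ψ, hψ⟩ : ∃ ψ : β → F, ∀ p, ψ ⬝ᵥ p = φ p := ⟨fun i => φ (Pi.single i 1), fun p => by
    conv_rhs => rw [pi_eq_sum_univ' p, map_sum]
    simp [dotProduct, mul_comm]⟩
  have key : ∀ u, φ (mv G (mv G w)) • mv A (mv A u) = (2 : F) • mv A u := fun u => by
    have := congrArg (ctr ψ) (h u w)
    simp only [map_add, map_sub, map_smul, ctr_ten, hψ, hφ1, hφ2, zero_smul, add_zero, one_smul, map_zero] at this
    exact sub_eq_zero.1 this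
  left
  by_cases h0 : φ (mv G (mv G w)) = 0
  · refine ⟨0, fun u => ?_⟩
    have := key u
    rw [h0, zero_smul] at this
    rw [(smul_eq_zero.1 this.symm).resolve_left h2, zero_smul]
  · refine ⟨2 / φ (mv G (mv G w)), fun u => ?_⟩
    have := key (mv A⁻¹ u)
    rw [mv_mv_inv] at this
    rw [div_eq_inv_mul, ← smul_smul, ← this, inv_smul_smul₀ h0]

/-- The first factor being scalar contradicts the dimensions. -/
theorem not_right [Finite F] (C : Ctx f f₁ Q M) (hs : 3 ≤ Fintype.card α)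
    (hne : M ≠ preserving (Units.coeHom (Matrix (α × β) (α × β) F)) f) {g : GL (α × β) F} (hg : g ∈ M)
    {v : α → F} (hv : v ≠ 0) {t : F} (ht : t ≠ 0) {G : (β → F) →ₗ[F] β → F}
    (hG : ∀ u w, mv (g * tA C v t * g⁻¹) (ten u w) = ten u (G w)) : False := by
  have hQ := C.hQ
  have h2 := C.h2
  obtain ⟨d₀, hd₀⟩ := (C.h₁.nondegenerate v hv).1
  obtain ⟨d, hdv⟩ : ∃ d, f₁ d v = 1 := ⟨(f₁ d₀ v)⁻¹ • d₀, by rw [C.h₁.bilinear.smul_left, inv_mul_cancel₀ hd₀]⟩
  have hvd : f₁ v d = -1 := by rw [C.h₁.skew, hdv]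
  obtain ⟨h, hh⟩ : ∃ h, h = g * tA C v t * g⁻¹ := ⟨_, rfl⟩
  have hhM : h ∈ M := hh ▸ M.mul_mem (M.mul_mem hg (tA_mem C v t)) (M.inv_mem hg)
  have hdiff : ∀ x, mv h x - x = t • mv g (ten v (piv f₁ v (mv g⁻¹ x))) := fun x => by
    rw [hh, mv_mul, mv_mul, mv_tA, mv_add, mv_smul, mv_mv_inv, add_sub_cancel_left]
  obtain ⟨N, hN⟩ : ∃ N : (β → F) →ₗ[F] β → F, N = G - LinearMap.id := ⟨_, rfl⟩
  have hpiv : ∀ a x, piv f₁ a (mv h x - x) = N (piv f₁ a x) := fun a x => by
    have e : (piv f₁ a).comp (mvLin h - LinearMap.id) = (N.comp (piv f₁ a) : (α × β → F) →ₗ[F] β → F) :=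
      ext_ten fun u w => by
        rw [LinearMap.comp_apply, LinearMap.comp_apply, LinearMap.sub_apply, Matrix.toLin'_apply,
          LinearMap.id_apply]
        show piv f₁ a (mv h (ten u w) - ten u w) = _
        rw [hh, hG, map_sub, piv_ten C, piv_ten C, hN, LinearMap.sub_apply, LinearMap.id_apply, map_smul]
    have := LinearMap.congr_fun e x
    rwa [LinearMap.comp_apply, LinearMap.comp_apply, LinearMap.sub_apply, Matrix.toLin'_apply,
      LinearMap.id_apply] at this
  have hNten : ∀ u w, mv h (ten u w) - ten u w = ten u (N w) := fun u w => by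
    rw [hh, hG, hN, LinearMap.sub_apply, LinearMap.id_apply, ← ten_sub_right]
  -- the second factor
  have hNN : ∀ p, N (N p) = 0 := fun p => by
    have h1 : piv f₁ v (mv g⁻¹ (mv h (ten d p) - ten d p)) = 0 := by
      rw [hdiff, mv_smul, mv_inv_mv, map_smul, piv_line C, smul_zero]
    have h2' : mv h (mv h (ten d p) - ten d p) - (mv h (ten d p) - ten d p) = 0 := by
      rw [hdiff, h1, ten_zero_right, mv_zero, smul_zero]
    have h3 := hpiv v (mv h (ten d p) - ten d p)
    rwa [h2', map_zero, hpiv, piv_ten C, hdv, one_smul, eq_comm] at h3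
  have hiso : ∀ p q, Orth.pol Q (G p) (G q) = Orth.pol Q p q := fun p q => by
    have := C.iso hhM (ten d p) (ten v q)
    rwa [hh, hG, hG, C.hpol, C.hpol, hdv, one_mul, one_mul] at this
  have hexp : ∀ p q, Orth.pol Q (N p) q + Orth.pol Q p (N q) + Orth.pol Q (N p) (N q) = 0 := fun p q => by
    have := hiso p q
    rw [show G p = p + N p by rw [hN, LinearMap.sub_apply, LinearMap.id_apply]; abel,
      show G q = q + N q by rw [hN, LinearMap.sub_apply, LinearMap.id_apply]; abel, Orth.pol_add_left hQ,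
      Orth.pol_add_right hQ, Orth.pol_add_right hQ] at this
    linear_combination this
  have hNiso : ∀ p q, Orth.pol Q (N p) (N q) = 0 := fun p q => by
    have := hexp p (N q)
    rwa [hNN, Orth.pol_zero_right hQ, Orth.pol_zero_right hQ, add_zero, add_zero] at this
  have hskew : ∀ p q, Orth.pol Q (N p) q = -Orth.pol Q p (N q) := fun p q => by
    linear_combination hexp p q - hNiso p q
  obtain ⟨L, hL⟩ : ∃ L, L = LinearMap.range N := ⟨_, rfl⟩
  -- the line goes into the subspace of L, and back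
  have hinto : ∀ b, mv g (ten v b) ∈ tsp f₁ L := fun b => mem_tsp.2 fun a => by
    have h1 := hdiff (mv g (ten d b))
    rw [mv_inv_mv, piv_ten C, hdv, one_smul] at h1
    rw [show mv g (ten v b) = t⁻¹ • (mv h (mv g (ten d b)) - mv g (ten d b)) by rw [h1, inv_smul_smul₀ ht],
      map_smul, hpiv, hL]
    exact Submodule.smul_mem _ _ (LinearMap.mem_range_self _ _)
  have hback : ∀ a, ∀ l ∈ L, ∀ w, f₁ w v = 0 → piv f₁ w (mv g⁻¹ (ten a l)) = 0 := fun a l hl w hw => by
    obtain ⟨p, rfl⟩ := LinearMap.mem_range.1 (hL ▸ hl)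
    rw [← hNten, hdiff, mv_smul, mv_inv_mv, map_smul, piv_ten C, (f_eq_zero_comm C.h₁).1 hw, zero_smul, smul_zero]
  obtain ⟨W, hW⟩ : ∃ W : Submodule F (α × β → F), ∀ y, y ∈ W ↔ ∀ w, f₁ w v = 0 → piv f₁ w (mv g⁻¹ y) = 0 :=
    ⟨⨅ w : {w : α → F // f₁ w v = 0}, LinearMap.ker ((piv f₁ w.1).comp (mvLin g⁻¹)), fun y => by
      rw [Submodule.mem_iInf, Subtype.forall]
      simp only [LinearMap.mem_ker, LinearMap.comp_apply, Matrix.toLin'_apply]⟩
  have hLW : tsp f₁ L ≤ W := tsp_le C fun a l hl => (hW _).2 (hback a l hl)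
  have hQL : ∀ l ∈ L, Q l = 0 := fun l hl => by
    obtain ⟨p, rfl⟩ := LinearMap.mem_range.1 (hL ▸ hl)
    have := hNiso p p
    rw [Orth.pol_self hQ] at this
    exact (mul_eq_zero.1 this).resolve_left h2
  -- L has dimension at least two
  have hN0 : ∃ p, N p ≠ 0 := by
    by_contra hall
    push Not at hall
    obtain ⟨b, -, hb0, -⟩ := Orth.exists_singular hQ (X := ⊤) (by rw [finrank_top, Module.finrank_pi]; exact C.h3)
    have hz : mv g (ten v b) = 0 := eq_zero_of_piv C fun a => by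
      obtain ⟨p, hp⟩ := LinearMap.mem_range.1 (hL ▸ mem_tsp.1 (hinto b) a)
      rw [← hp, hall p]
    exact ten_ne_zero hv hb0 (mv_inj g (hz.trans (mv_zero g).symm))
  obtain ⟨p₁, hp₁⟩ := hN0
  obtain ⟨c, hc⟩ : ∃ c, c = N p₁ := ⟨_, rfl⟩
  have hc0 : c ≠ 0 := hc ▸ hp₁
  have hcL : c ∈ L := by rw [hL, hc]; exact LinearMap.mem_range_self _ _
  have hr : 2 ≤ Module.finrank F L := by
    by_contra hlt
    have h1 : Module.finrank F L = 1 := by
      have : 0 < Module.finrank F L := Module.finrank_pos_iff_exists_ne_zero.2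
        ⟨⟨c, hcL⟩, fun h => hc0 (congrArg Subtype.val h)⟩
      omega
    have all : ∀ p, ∃ a : F, N p = a • c := fun p => by
      obtain ⟨a, ha⟩ := exists_smul_eq_of_finrank_eq_one h1 (x := (⟨c, hcL⟩ : L))
        (fun h => hc0 (congrArg Subtype.val h)) ⟨N p, hL ▸ LinearMap.mem_range_self _ _⟩
      exact ⟨a, (congrArg Subtype.val ha).symm⟩
    obtain ⟨p₂, hp₂⟩ := (hQ.nondegenerate c hc0).2
    obtain ⟨a, ha⟩ := all p₂
    have e1 : Orth.pol Q (N p₂) p₂ = 0 := by
      have := hskew p₂ p₂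
      rw [Orth.pol_comm p₂] at this
      exact (mul_eq_zero.1 (show (2 : F) * Orth.pol Q (N p₂) p₂ = 0 by linear_combination this)).resolve_left h2
    rw [ha, Orth.pol_smul_left hQ] at e1
    have ha0 : a = 0 := (mul_eq_zero.1 e1).resolve_right hp₂
    have := hskew p₁ p₂
    rw [← hc, ha, ha0, zero_smul, Orth.pol_zero_right hQ, neg_zero] at this
    exact hp₂ this
  have hsr : Fintype.card α * Module.finrank F L ≤ Fintype.card β := by
    let Φ : (α → L) →ₗ[F] β → F :=
      ((piv f₁ d).comp (mvLin g⁻¹)).comp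
        (∑ a, ((lam (Pi.single a (1 : F))).comp (L.subtype.comp (LinearMap.proj a))))
    have hval : ∀ ξ : α → L, (∑ a, ((lam (Pi.single a (1 : F))).comp (L.subtype.comp (LinearMap.proj a)))) ξ =
        fun x : α × β => (ξ x.1 : β → F) x.2 := fun ξ => by
      funext ⟨i, j⟩
      rw [LinearMap.sum_apply, Finset.sum_apply, Finset.sum_eq_single i]
      · simp [lam_apply, ten]
      · intro b _ hb
        simp [lam_apply, ten, Pi.single_eq_of_ne hb.symm]
      · simp
    have hinj : Function.Injective Φ := by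
      rw [injective_iff_map_eq_zero]
      intro ξ hξ
      simp only [Φ, LinearMap.comp_apply, Matrix.toLin'_apply] at hξ
      rw [hval] at hξ
      set y : α × β → F := fun x => (ξ x.1 : β → F) x.2 with hy
      have hyW : y ∈ W := by
        rw [eq_sum_rows y]
        exact Submodule.sum_mem _ fun a _ => hLW (ten_mem_tsp C _ (ξ a).2)
      have h0 : mv g⁻¹ y = 0 := by
        rw [mem_line C hdv ((hW y).1 hyW), show piv f₁ d (mv g⁻¹ y) = 0 from hξ, ten_zero_right, neg_zero]
      have hy0 : y = 0 := mv_inj g⁻¹ (h0.trans (mv_zero _).symm)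
      funext a
      exact Subtype.ext (funext fun k => congrFun hy0 (a, k))
    have := LinearMap.finrank_le_finrank_of_injective hinj
    rwa [Module.finrank_pi_fintype, Finset.sum_const, Finset.card_univ, smul_eq_mul, Module.finrank_pi] at this
  have h3r : 3 * Module.finrank F L ≤ Fintype.card β := le_trans (Nat.mul_le_mul_right _ hs) hsr
  -- an anisotropic vector orthogonal to L
  obtain ⟨z, hzL, hzQ⟩ := Orth.exists_anisotropic_big hQ (L := Orth.orth hQ L)
    (by have := Orth.finrank_orth hQ L; omega)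
  have hLz : ∀ l ∈ L, Orth.pol Q l z = 0 := hzL
  obtain ⟨E, hE, hEs⟩ := Orth.exists_siegel hQ (hQL c hcL) (hLz c hcL)
  have hcc : Orth.pol Q c c = 0 := by rw [Orth.pol_self hQ, hQL c hcL, mul_zero]
  have hll : ∀ l ∈ L, ∀ l' ∈ L, Orth.pol Q l l' = 0 := fun l hl l' hl' => by
    obtain ⟨p, rfl⟩ := LinearMap.mem_range.1 (hL ▸ hl)
    obtain ⟨q, rfl⟩ := LinearMap.mem_range.1 (hL ▸ hl')
    exact hNiso p q
  have hEL : ∀ l ∈ L, mv E l = l := fun l hl => by
    rw [hEs, hll l hl c hcL, hLz l hl, mul_zero, add_zero, zero_smul, zero_smul, add_zero, sub_zero]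
  have hEz : mv E z ≠ z := fun h0 => by
    rw [hEs, Orth.pol_comm z c, hLz c hcL, zero_smul, add_zero, mul_zero, add_zero, Orth.pol_self hQ,
      sub_eq_self] at h0
    exact hc0 ((smul_eq_zero.1 h0).resolve_left (mul_ne_zero h2 hzQ))
  obtain ⟨k, hk⟩ : ∃ k, k = g⁻¹ * tB E * g := ⟨_, rfl⟩
  have hkM : k ∈ M := hk ▸ M.mul_mem (M.mul_mem (M.inv_mem hg) (tB_mem C hE)) hg
  have hkv : ∀ x, mv g (mv k x - x) = mv (tB E) (mv g x) - mv g x := fun x => by
    rw [mv_sub, hk, mv_mul, mv_mul, mv_mv_inv]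
  have hperp : ∀ x, piv f₁ v x = 0 → ∀ a l, l ∈ L → Orth.pol Q (piv f₁ a (mv g x)) l = 0 := fun x hx a l hl => by
    rw [← f_ten C, C.iso_inv hg,
      mem_line C hdv ((hW _).1 (hLW (ten_mem_tsp C a hl))), f_neg_right C.hf, f_ten C, hx,
      Orth.pol_zero_left hQ, neg_zero]
  have hrad : Rad f₁ M v k := by
    refine ⟨hkM, fun q => ?_, fun x hx w hw => ?_⟩
    · rw [hk, mv_mul, mv_mul, tB_fix C hEL (hinto q), mv_inv_mv]
    · have hmem : mv (tB E) (mv g x) - mv g x ∈ tsp f₁ L := mem_tsp.2 fun a => by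
        rw [map_sub, piv_tB C, hEs, hperp x hx a c hcL, zero_smul, add_zero, mul_zero, add_zero, sub_sub_cancel_left]
        exact L.neg_mem (L.smul_mem _ hcL)
      have := (hW _).1 (hLW hmem) w hw
      rwa [← hkv, mv_inv_mv, map_sub, sub_eq_zero] at this
  by_cases hall : ∀ w, f₁ w v = 0 → mm f₁ d w k = 0
  · -- a transvection would fix z
    obtain ⟨S, -, hS⟩ := hrad.short C hdv hall
    obtain ⟨a, ha⟩ : ∃ a : α → F, a ≠ 0 := ⟨v, hv⟩
    obtain ⟨x, hx⟩ : ∃ x, x = mv g⁻¹ (ten a z) := ⟨_, rfl⟩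
    have hx0 : piv f₁ v x = 0 := eq_of_pol C fun b => by
      rw [Orth.pol_zero_left hQ, ← f_ten C, hx, ← C.iso hg, mv_mv_inv, C.hf.skew, f_ten C,
        neg_eq_zero]
      exact hLz _ (mem_tsp.1 (hinto b) a)
    have h1 := hS x
    rw [hx0, map_zero, ten_zero_right, add_zero] at h1
    have h3 := hkv x
    rw [h1, sub_self, mv_zero, hx, mv_mv_inv, tB_ten, ← ten_sub_right, eq_comm] at h3
    exact ten_ne_zero ha (sub_ne_zero.2 hEz) h3
  push Not at hall
  obtain ⟨w, hw, hwm⟩ := hall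
  obtain ⟨κ, hκ⟩ := mid_scalar C hne hdv hrad hw
  have hκ0 : κ ≠ 0 := fun h0 => hwm (by rw [hκ, h0, zero_smul])
  have hmid : ∀ p, piv f₁ w (mv k (ten d p) - ten d p) = κ • p := fun p => by
    have := LinearMap.congr_fun hκ p
    rwa [mm_apply, LinearMap.smul_apply, LinearMap.id_apply, ← piv_ten C w d p, ← map_sub] at this
  obtain ⟨P, hP⟩ : ∃ P : Submodule F (β → F), P = Submodule.span F {c} ⊔ Submodule.span F {z} := ⟨_, rfl⟩
  let Φ : ((β → F) × (β → F)) →ₗ[F] α × β → F :=
    (mvLin g).comp (((mvLin k - LinearMap.id).comp ((lam d).comp (LinearMap.fst F _ _))) +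
      ((mvLin k - LinearMap.id).comp ((lam w).comp (LinearMap.snd F _ _))))
  have hΦ : ∀ p q, Φ (p, q) = mv g ((mv k (ten d p) - ten d p) + (mv k (ten w q) - ten w q)) := fun p q => by
    simp [Φ, Matrix.toLin'_apply, lam_apply]
  have hrange : LinearMap.range Φ ≤ tsp f₁ P := by
    rintro _ ⟨⟨p, q⟩, rfl⟩
    rw [hΦ, mv_add, hkv, hkv]
    refine Submodule.add_mem _ ?_ ?_ <;>
    · refine mem_tsp.2 fun a => ?_
      rw [map_sub, piv_tB C, hEs, sub_right_comm, add_sub_cancel_left, hP]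
      exact Submodule.sub_mem _ (Submodule.mem_sup_right (Submodule.smul_mem _ _ (Submodule.mem_span_singleton_self z)))
        (Submodule.mem_sup_left (Submodule.smul_mem _ _ (Submodule.mem_span_singleton_self c)))
  have hwv : piv f₁ v (ten w (0 : β → F)) = 0 := by rw [ten_zero_right, map_zero]
  have hinj : Function.Injective Φ := by
    rw [injective_iff_map_eq_zero]
    rintro ⟨p, q⟩ h0
    rw [hΦ] at h0
    have h0' := mv_inj g (h0.trans (mv_zero g).symm)
    have hq0 : piv f₁ w (mv k (ten w q) - ten w q) = 0 := by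
      rw [map_sub, hrad.mid _ (by rw [piv_ten C, hw, zero_smul]) w hw, sub_self]
    have hp : p = 0 := by
      have := congrArg (piv f₁ w) h0'
      rw [map_add, hmid, hq0, add_zero, map_zero] at this
      exact (smul_eq_zero.1 this).resolve_left hκ0
    rw [hp, ten_zero_right, mv_zero, sub_self, zero_add] at h0'
    have hq : q = 0 := by
      refine eq_of_pol C fun p' => ?_
      rw [Orth.pol_zero_left hQ]
      have h1 := C.iso hkM (ten w q) (ten d p')
      rw [sub_eq_zero.1 h0', C.hf.skew, C.hf.skew (ten w q) (ten d p'), neg_inj, ← sub_eq_zero, ← f_sub_left C.hf,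
        f_ten C, hmid, Orth.pol_smul_left hQ, Orth.pol_comm] at h1
      exact (mul_eq_zero.1 h1).resolve_left hκ0
    rw [hp, hq]; rfl
  have h1 := LinearMap.finrank_le_finrank_of_injective
    (f := LinearMap.codRestrict (tsp f₁ P) Φ fun x => hrange (LinearMap.mem_range_self Φ x))
    fun x y hxy => hinj (congrArg Subtype.val hxy)
  rw [Module.finrank_prod, Module.finrank_pi] at h1
  have h4 : Module.finrank F P ≤ 2 := by
    have := Submodule.finrank_add_le_finrank_add_finrank (Submodule.span F {c}) (Submodule.span F {z})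
    rw [← hP] at this
    have hc1 := finrank_span_singleton (K := F) hc0
    have hz1 := finrank_span_singleton (K := F) (v := z) (fun h => hzQ (by rw [h, Orth.q_zero hQ]))
    omega
  have h5 := finrank_tsp_le C (α := α) P
  have h6 : Fintype.card α * Module.finrank F P ≤ Fintype.card α * 2 := Nat.mul_le_mul_left _ h4
  have h7 : Fintype.card α * 2 ≤ Fintype.card α * Module.finrank F L := Nat.mul_le_mul_left _ hr
  omega

/-- A member conjugating a transvection of the first factor to a product is a product. -/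
theorem conj_kron [Finite F] (C : Ctx f f₁ Q M) (hs : 3 ≤ Fintype.card α)
    (hne : M ≠ preserving (Units.coeHom (Matrix (α × β) (α × β) F)) f) {g : GL (α × β) F} (hg : g ∈ M)
    {v : α → F} (hv : v ≠ 0) {t : F} (ht : t ≠ 0) (hk : IsKron (g * tA C v t * g⁻¹)) : IsKron g := by
  obtain ⟨d₀, hd₀⟩ := (C.h₁.nondegenerate v hv).1
  obtain ⟨A, G, hAG⟩ := hk
  obtain ⟨h, hh⟩ : ∃ h, h = g * tA C v t * g⁻¹ := ⟨_, rfl⟩
  have hkr : h = kr A G := hh.trans (Units.ext hAG)
  have hdiff : ∀ x, mv h x - x = t • mv g (ten v (piv f₁ v (mv g⁻¹ x))) := fun x => by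
    rw [hh, mv_mul, mv_mul, mv_tA, mv_add, mv_smul, mv_mv_inv, add_sub_cancel_left]
  have hsq : ∀ u w, ten (mv A (mv A u)) (mv G (mv G w)) - (2 : F) • ten (mv A u) (mv G w) + ten u w = 0 := by
    intro u w
    have h1 : piv f₁ v (mv g⁻¹ (mv h (ten u w) - ten u w)) = 0 := by
      rw [hdiff, mv_smul, mv_inv_mv, map_smul, piv_line C, smul_zero]
    have h2' := hdiff (mv h (ten u w) - ten u w)
    rw [h1, ten_zero_right, mv_zero, smul_zero, mv_sub, hkr, mv_kr_ten, mv_kr_ten] at h2'
    linear_combination (norm := module) h2'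
  rcases scalar_or_scalar C.h2 hsq with ⟨c, hc⟩ | ⟨c, hc⟩
  · exfalso
    refine not_right C hs hne hg hv ht (G := c • mvLin G) fun u w => ?_
    rw [← hh, hkr, mv_kr_ten, hc, ten_smul_left, LinearMap.smul_apply, Matrix.toLin'_apply, ten_smul_right]
  obtain ⟨u₀, hu₀⟩ : ∃ u, c • mv A u - u ≠ 0 := by
    by_contra hall
    push Not at hall
    have hall' : ∀ x, mv h x - x = 0 := by
      intro x
      exact LinearMap.congr_fun (show mvLin h - LinearMap.id = (0 : (α × β → F) →ₗ[F] α × β → F) from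
        ext_ten fun u w => by
          rw [LinearMap.sub_apply, Matrix.toLin'_apply, LinearMap.id_apply, LinearMap.zero_apply]
          show mv h (ten u w) - ten u w = 0
          rw [hkr, mv_kr_ten, hc, ten_smul_right, ← ten_smul_left, ← ten_sub_left, hall u, ten_zero_left]) x
    obtain ⟨b, -, hb0, -⟩ := Orth.exists_singular C.hQ (X := ⊤) (by rw [finrank_top, Module.finrank_pi]; exact C.h3)
    have := hdiff (mv g (ten ((f₁ d₀ v)⁻¹ • d₀) b))
    rw [hall', mv_inv_mv, piv_ten C, C.h₁.bilinear.smul_left, inv_mul_cancel₀ hd₀, one_smul, eq_comm,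
      smul_eq_zero, or_iff_right ht] at this
    exact ten_ne_zero hv hb0 (mv_inj g (this.trans (mv_zero g).symm))
  have := line_kron C hne hu₀ hv (M.inv_mem hg) fun w => ⟨t • piv f₁ v (mv g⁻¹ (ten u₀ w)), by
    have := hdiff (ten u₀ w)
    rw [hkr, mv_kr_ten, hc, ten_smul_right, ← ten_smul_left, ← ten_sub_left] at this
    rw [this, mv_smul, mv_inv_mv, ten_smul_right]⟩
  simpa using TensorMax.U.isKron_inv this

end Cfsg.Agent.SympTensorGen
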