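/-
Members keeping small pieces of the second factor are products.
-/
import Cfsg.Agent.Lib.SympTensorGen.Conj

set_option autoImplicit false
set_option linter.all false

namespace Cfsg.Agent.SympTensorGen

open scoped Matrix Kronecker
open Matrix Cfsg.Agent.Transvec Cfsg.Agent.TensorMax
open Cfsg.Agent.TensorMax.U (kr mv_kr_ten)

variable {α β : Type} [Fintype α] [DecidableEq α] [Fintype β] [DecidableEq β] {F : Type*} [Field F]
variable {f : (α × β → F) → (α × β → F) → F} {f₁ : (α → F) → (α → F) → F} {Q : (β → F) → F}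
variable {M : Subgroup (GL (α × β) F)}

/-- A member keeps every piece. -/
def Keeps (f₁ : (α → F) → (α → F) → F) (𝒰 : Set (Submodule F (β → F))) (g : GL (α × β) F) : Prop :=
  ∀ U ∈ 𝒰, ∀ x ∈ tsp f₁ U, mv g x ∈ tsp f₁ U

theorem Keeps.mul {𝒰 : Set (Submodule F (β → F))} {g h : GL (α × β) F} (hg : Keeps f₁ 𝒰 g) (hh : Keeps f₁ 𝒰 h) :
    Keeps f₁ 𝒰 (g * h) := fun U hU x hx => by rw [mv_mul]; exact hg U hU _ (hh U hU x hx)

theorem Keeps.inv {𝒰 : Set (Submodule F (β → F))} {g : GL (α × β) F} (hg : Keeps f₁ 𝒰 g) : Keeps f₁ 𝒰 g⁻¹ := by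
  intro U hU x hx
  let φ : tsp f₁ U →ₗ[F] tsp f₁ U := (mvLin g).restrict fun y hy => by rw [Matrix.toLin'_apply]; exact hg U hU y hy
  have hinj : Function.Injective φ := fun a b hab => Subtype.ext (mv_inj g (congrArg Subtype.val hab))
  obtain ⟨y, hy⟩ := LinearMap.injective_iff_surjective.1 hinj ⟨x, hx⟩
  rw [show x = mv g (y : α × β → F) from (congrArg Subtype.val hy).symm, mv_inv_mv]
  exact y.2

theorem keeps_tA (C : Ctx f f₁ Q M) (𝒰 : Set (Submodule F (β → F))) (v : α → F) (t : F) :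
    Keeps f₁ 𝒰 (tA C v t) := fun U _ x hx => by
  rw [mv_tA]
  exact Submodule.add_mem _ hx (Submodule.smul_mem _ _ (ten_mem_tsp C _ (mem_tsp.1 hx v)))

/-- The second vectors whose tensors with e stay on the line of e. -/
def meet (f₁ : (α → F) → (α → F) → F) (e : α → F) (g : GL (α × β) F) : Submodule F (β → F) :=
  ⨅ v : {v : α → F // f₁ v e = 0}, LinearMap.ker ((piv f₁ v.1).comp ((mvLin g).comp (lam e)))

theorem mem_meet {e : α → F} {g : GL (α × β) F} {w : β → F} :
    w ∈ meet f₁ e g ↔ ∀ v, f₁ v e = 0 → piv f₁ v (mv g (ten e w)) = 0 := by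
  rw [meet, Submodule.mem_iInf, Subtype.forall]
  simp only [LinearMap.mem_ker, LinearMap.comp_apply, Matrix.toLin'_apply, lam_apply]

/-- A member keeping a spanning family of small pieces is a product. -/
theorem kron_of_small [Finite F] (C : Ctx f f₁ Q M) (hs : 3 ≤ Fintype.card α)
    (hne : M ≠ preserving (Units.coeHom (Matrix (α × β) (α × β) F)) f) {𝒰 : Set (Submodule F (β → F))}
    (hsup : sSup 𝒰 = ⊤) (hsmall : ∀ U ∈ 𝒰, Module.finrank F U + 2 ≤ Fintype.card α) {g : GL (α × β) F}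
    (hg : g ∈ M) (hk : Keeps f₁ 𝒰 g) : IsKron g := by
  obtain ⟨e, he⟩ : ∃ e : α → F, e ≠ 0 := by
    obtain ⟨a⟩ : Nonempty α := Fintype.card_pos_iff.1 (by omega)
    exact ⟨Pi.single a 1, Pi.single_ne_zero_iff.2 one_ne_zero⟩
  obtain ⟨d₀, hd₀⟩ := (C.h₁.nondegenerate e he).1
  have hde : f₁ ((f₁ d₀ e)⁻¹ • d₀) e = 1 := by rw [C.h₁.bilinear.smul_left, inv_mul_cancel₀ hd₀]
  generalize hn : Fintype.card β - Module.finrank F (meet f₁ e g) = n
  induction n using Nat.strong_induction_on generalizing g with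
  | _ n ih =>
    by_cases htop : meet f₁ e g = ⊤
    · refine stab_kron C hne hde hg fun p => ⟨-piv f₁ ((f₁ d₀ e)⁻¹ • d₀) (mv g (ten e p)), ?_⟩
      have hp : p ∈ meet f₁ e g := htop ▸ Submodule.mem_top
      exact (mem_line C hde (mem_meet.1 hp)).trans (map_neg (lam e) _).symm
    obtain ⟨U, hU, hUK⟩ : ∃ U ∈ 𝒰, ¬ U ≤ meet f₁ e g := by
      by_contra hall
      push Not at hall
      exact htop (top_le_iff.1 (hsup ▸ sSup_le hall))
    obtain ⟨w, hw, hwK⟩ := SetLike.not_le_iff_exists.1 hUK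
    have hmem := hk U hU _ (ten_mem_tsp C e hw)
    let Φ : (α → F) →ₗ[F] F × U :=
      { toFun := fun v => (f₁ v e, ⟨piv f₁ v (mv g (ten e w)), mem_tsp.1 hmem v⟩)
        map_add' := fun v v' => by
          refine Prod.ext (C.h₁.bilinear.add_left _ _ _) (Subtype.ext ?_)
          exact piv_add C v v' _
        map_smul' := fun c v => by
          refine Prod.ext (C.h₁.bilinear.smul_left _ _ _) (Subtype.ext ?_)
          exact piv_smul C c v _ }
    obtain ⟨v, hv, hv0⟩ := (LinearMap.ker Φ).ne_bot_iff.1 (LinearMap.ker_ne_bot_of_finrank_lt (by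
      rw [Module.finrank_prod, Module.finrank_self, Module.finrank_pi]; have := hsmall U hU; omega))
    have hve : f₁ v e = 0 := congrArg Prod.fst (LinearMap.mem_ker.1 hv)
    have hvw : piv f₁ v (mv g (ten e w)) = 0 :=
      congrArg Subtype.val (congrArg Prod.snd (LinearMap.mem_ker.1 hv))
    have fixes : ∀ p, piv f₁ v (mv g (ten e p)) = 0 → p ∈ meet f₁ e (g⁻¹ * tA C v 1 * g) := fun p hp =>
      mem_meet.2 fun u hu => by
        rw [mv_mul, mv_mul, mv_tA, hp, ten_zero_right, smul_zero, add_zero, mv_inv_mv, piv_ten C,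
          (f_eq_zero_comm C.h₁).1 hu, zero_smul]
    have hle : meet f₁ e g ⊔ Submodule.span F {w} ≤ meet f₁ e (g⁻¹ * tA C v 1 * g) :=
      sup_le (fun p hp => fixes p (mem_meet.1 hp v hve))
        ((Submodule.span_singleton_le_iff_mem _ _).2 (fixes w hvw))
    have hlt : Module.finrank F (meet f₁ e g) < Module.finrank F (meet f₁ e (g⁻¹ * tA C v 1 * g)) :=
      Submodule.finrank_lt_finrank_of_lt (lt_of_lt_of_le (left_lt_sup.2 fun h =>
        hwK (h (Submodule.mem_span_singleton_self w))) hle)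
    have hb : Module.finrank F (meet f₁ e (g⁻¹ * tA C v 1 * g)) ≤ Fintype.card β :=
      le_trans (Submodule.finrank_le _) (le_of_eq (Module.finrank_pi F))
    have h1 := ih _ (by omega) (g := g⁻¹ * tA C v 1 * g)
      (M.mul_mem (M.mul_mem (M.inv_mem hg) (tA_mem C v 1)) hg)
      ((hk.inv.mul (keeps_tA C 𝒰 v 1)).mul hk) rfl
    have h2 := conj_kron C hs hne (M.inv_mem hg) hv0 one_ne_zero (by rwa [inv_inv])
    simpa using TensorMax.U.isKron_inv h2

end Cfsg.Agent.SympTensorGen
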