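/-
Involutions of the second factor keeping the pieces, and their centralisers.
-/
import Cfsg.Agent.Lib.SympTensorGen.Pieces

set_option autoImplicit false
set_option linter.all false

namespace Cfsg.Agent.SympTensorGen

open scoped Matrix Kronecker
open Matrix Cfsg.Agent.Transvec Cfsg.Agent.TensorMax
open Cfsg.Agent.TensorMax.U (kr mv_kr_ten isKron_kr ext_ten_mv)

variable {α β : Type} [Fintype α] [DecidableEq α] [Fintype β] [DecidableEq β] {F : Type*} [Field F]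
variable {f : (α × β → F) → (α × β → F) → F} {f₁ : (α → F) → (α → F) → F} {Q : (β → F) → F}
variable {M : Subgroup (GL (α × β) F)}

theorem ten_right_inj {e : α → F} (he : e ≠ 0) {p q : β → F} (h : ten e p = ten e q) : p = q := by
  by_contra hne
  exact ten_ne_zero he (sub_ne_zero.2 hne) (by rw [ten_sub_right, h, sub_self])

theorem ten_left_inj {c : β → F} (hc : c ≠ 0) {u v : α → F} (h : ten u c = ten v c) : u = v := by
  by_contra hne
  exact ten_ne_zero (sub_ne_zero.2 hne) hc (by rw [ten_sub_left, h, sub_self])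

theorem exists_pair_alpha (C : Ctx f f₁ Q M) (ha : 0 < Fintype.card α) :
    ∃ a d : α → F, a ≠ 0 ∧ f₁ d a = 1 := by
  obtain ⟨i⟩ : Nonempty α := Fintype.card_pos_iff.1 ha
  have he : (Pi.single i 1 : α → F) ≠ 0 := by simp
  obtain ⟨d₀, hd₀⟩ := (C.h₁.nondegenerate _ he).1
  exact ⟨_, _, he, show f₁ ((f₁ d₀ (Pi.single i 1))⁻¹ • d₀) (Pi.single i 1) = 1 by
    rw [C.h₁.bilinear.smul_left, inv_mul_cancel₀ hd₀]⟩

/-- The members of the overgroup keeping every piece. -/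
def stabH (f₁ : (α → F) → (α → F) → F) (M : Subgroup (GL (α × β) F)) (𝒰 : Set (Submodule F (β → F))) :
    Subgroup (GL (α × β) F) where
  carrier := {g | g ∈ M ∧ Keeps f₁ 𝒰 g}
  one_mem' := ⟨M.one_mem, fun U _ x hx => by rw [mv_one]; exact hx⟩
  mul_mem' := fun ha hb => ⟨M.mul_mem ha.1 hb.1, ha.2.mul hb.2⟩
  inv_mem' := fun ha => ⟨M.inv_mem ha.1, ha.2.inv⟩

theorem tA_stab (C : Ctx f f₁ Q M) (𝒰 : Set (Submodule F (β → F))) (v : α → F) (t : F) :
    tA C v t ∈ stabH f₁ M 𝒰 := ⟨tA_mem C v t, keeps_tA C 𝒰 v t⟩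

/-- A partition into non-degenerate pieces. -/
structure Good (Q : (β → F) → F) (𝒰 : Set (Submodule F (β → F))) : Prop where
  sup : sSup 𝒰 = ⊤
  nondeg : ∀ U ∈ 𝒰, Orth.Nondeg Q U
  ne_bot : ∀ U ∈ 𝒰, U ≠ ⊥
  orth : ∀ U ∈ 𝒰, ∀ V ∈ 𝒰, U ≠ V → ∀ u ∈ U, ∀ v ∈ V, Orth.pol Q u v = 0

/-- Members of the finer stabilisers are products. -/
def Fine (f₁ : (α → F) → (α → F) → F) (Q : (β → F) → F) (M : Subgroup (GL (α × β) F))
    (𝒰 : Set (Submodule F (β → F))) : Prop :=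
  ∀ U ∈ 𝒰, ∀ U₁ ≤ U, Orth.Nondeg Q U₁ → U₁ ≠ ⊥ → U₁ ≠ U → ∀ g ∈ stabH f₁ M 𝒰,
    (∀ x ∈ tsp f₁ U₁, mv g x ∈ tsp f₁ U₁) → IsKron g

/-- An involutive isometry keeping every piece. -/
structure Invol (Q : (β → F) → F) (𝒰 : Set (Submodule F (β → F))) (G : GL β F) : Prop where
  iso : G ∈ isometryGroup F Q
  sq : G * G = 1
  pres : ∀ U ∈ 𝒰, ∀ u ∈ U, mv G u ∈ U

/-- Neither sign on the piece. -/
def Split (G : GL β F) (U : Submodule F (β → F)) : Prop :=
  (∃ u ∈ U, mv G u ≠ u) ∧ ∃ u ∈ U, mv G u ≠ -u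

theorem Invol.mem (C : Ctx f f₁ Q M) {𝒰 : Set (Submodule F (β → F))} {G : GL β F} (hG : Invol Q 𝒰 G) :
    (tB G : GL (α × β) F) ∈ stabH f₁ M 𝒰 :=
  ⟨tB_mem C hG.iso, fun U hU x hx => mem_tsp.2 fun a => by rw [piv_tB C]; exact hG.pres U hU _ (mem_tsp.1 hx a)⟩

theorem tB_scalar (C : Ctx f f₁ Q M) {G : GL β F} {U : Submodule F (β → F)} {ε : F}
    (hG : ∀ l ∈ U, mv G l = ε • l) {y : α × β → F} (hy : y ∈ tsp f₁ U) : mv (tB G) y = ε • y := by
  rw [← sub_eq_zero]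
  exact eq_zero_of_piv C fun a => by rw [map_sub, piv_tB C, map_smul, hG _ (mem_tsp.1 hy a), sub_self]

/-- The centraliser of an involution that is not a sign on some piece. -/
theorem cent_invol [Finite F] (C : Ctx f f₁ Q M) {𝒰 : Set (Submodule F (β → F))} (h𝒰 : Good Q 𝒰)
    (hfine : Fine f₁ Q M 𝒰) {G : GL β F} (hG : Invol Q 𝒰 G) {U : Submodule F (β → F)} (hU : U ∈ 𝒰)
    (hsp : Split G U) {x : GL (α × β) F} (hx : x ∈ stabH f₁ M 𝒰) (hcom : x * tB G = tB G * x) : IsKron x := by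
  have hQ := C.hQ
  obtain ⟨K, hK⟩ : ∃ K : Submodule F (β → F), ∀ p, p ∈ K ↔ mv G p = p :=
    ⟨LinearMap.ker (mvLin G - LinearMap.id), fun p => by
      rw [LinearMap.mem_ker, LinearMap.sub_apply, Matrix.toLin'_apply, LinearMap.id_apply, sub_eq_zero]⟩
  have hGG : ∀ p, mv G (mv G p) = p := fun p => by rw [← mv_mul, hG.sq, mv_one]
  refine hfine U hU (U ⊓ K) inf_le_left ?_ ?_ ?_ x hx fun y hy => mem_tsp.2 fun a => ⟨?_, ?_⟩
  · intro u hu h
    refine h𝒰.nondeg U hU u hu.1 fun w hw => ?_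
    have hw' : w + mv G w ∈ U ⊓ K := ⟨U.add_mem hw (hG.pres U hU w hw), (hK _).2 (by rw [mv_add, hGG, add_comm])⟩
    have e1 := h _ hw'
    have e2 := Orth.pol_mv hQ hG.iso w u
    rw [(hK u).1 hu.2] at e2
    rw [Orth.pol_add_left hQ, e2, ← two_mul] at e1
    exact (mul_eq_zero.1 e1).resolve_left C.h2
  · obtain ⟨u, hu, hne⟩ := hsp.2
    refine (Submodule.ne_bot_iff _).2 ⟨u + mv G u, ⟨U.add_mem hu (hG.pres U hU u hu),
      (hK _).2 (by rw [mv_add, hGG, add_comm])⟩, fun h => hne ?_⟩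
    rwa [eq_neg_iff_add_eq_zero, add_comm]
  · obtain ⟨u, hu, hne⟩ := hsp.1
    exact fun h => hne ((hK u).1 (show u ∈ U ⊓ K by rw [h]; exact hu).2)
  · exact mem_tsp.1 (hx.2 U hU y (mem_tsp.2 fun a => (mem_tsp.1 hy a).1)) a
  · refine (hK _).2 ?_
    rw [← piv_tB C, ← mv_mul, ← hcom, mv_mul, tB_fix C (U := U ⊓ K) (fun l hl => (hK l).1 hl.2) hy]

theorem tB_inj (C : Ctx f f₁ Q M) (ha : 0 < Fintype.card α) {G H : GL β F}
    (h : (tB G : GL (α × β) F) = tB H) : G = H := by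
  obtain ⟨a, -, ha0, -⟩ := exists_pair_alpha C ha
  exact ext_mv fun p => ten_right_inj ha0 (by rw [← tB_ten, ← tB_ten, h])

/-- The conjugate is again an involution of the second factor. -/
theorem invol_of_eq (C : Ctx f f₁ Q M) (ha : 0 < Fintype.card α) {𝒰 : Set (Submodule F (β → F))} {G G' : GL β F}
    (hG : Invol Q 𝒰 G) {x : GL (α × β) F} (hx : x ∈ stabH f₁ M 𝒰) (h : x * tB G * x⁻¹ = tB G') :
    Invol Q 𝒰 G' := by
  obtain ⟨a, d, ha0, hda⟩ := exists_pair_alpha C ha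
  have hmem : (tB G' : GL (α × β) F) ∈ stabH f₁ M 𝒰 :=
    h ▸ Subgroup.mul_mem _ (Subgroup.mul_mem _ hx (hG.mem C)) (Subgroup.inv_mem _ hx)
  refine ⟨Orth.mem_isometry.2 fun p => ?_, tB_inj C ha ?_, fun U hU u hu => ?_⟩
  · have e := C.iso hmem.1 (ten d p) (ten a p)
    rw [tB_ten, tB_ten, C.hpol, C.hpol, hda, one_mul, one_mul, Orth.pol_self C.hQ, Orth.pol_self C.hQ] at e
    exact mul_left_cancel₀ C.h2 e
  · rw [tB_mul, ← h, tB_one, show x * tB G * x⁻¹ * (x * tB G * x⁻¹) = x * (tB G * tB G) * x⁻¹ by group,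
      ← tB_mul, hG.sq, tB_one, mul_one, mul_inv_cancel]
  · have e := mem_tsp.1 (hmem.2 U hU _ (ten_mem_tsp C a hu)) d
    rw [tB_ten, piv_ten C, C.h₁.skew, hda, neg_one_smul] at e
    exact neg_neg (mv G' u) ▸ U.neg_mem e

/-- Conjugating an involution of the second factor into the second factor. -/
theorem conj_B [Finite F] (C : Ctx f f₁ Q M) (hs : 3 ≤ Fintype.card α)
    (hne : M ≠ preserving (Units.coeHom (Matrix (α × β) (α × β) F)) f) {𝒰 : Set (Submodule F (β → F))}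
    (h𝒰 : Good Q 𝒰) (hfine : Fine f₁ Q M 𝒰) {G G' : GL β F} (hG : Invol Q 𝒰 G) {U : Submodule F (β → F)}
    (hU : U ∈ 𝒰) (hsp : Split G U) {x : GL (α × β) F} (hx : x ∈ stabH f₁ M 𝒰)
    (h : x * tB G * x⁻¹ = tB G') : IsKron x := by
  obtain ⟨a, d, ha0, -⟩ := exists_pair_alpha C (by omega)
  have hG' := invol_of_eq C (by omega) hG hx h
  have back : ∀ ε : F, (∀ u ∈ U, mv G' u = ε • u) → ∀ u ∈ U, mv G u = ε • u := fun ε hε u hu => by
    refine ten_right_inj ha0 ?_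
    rw [← tB_ten, ten_smul_right, show (tB G : GL (α × β) F) = x⁻¹ * tB G' * x by rw [← h]; group, mv_mul, mv_mul,
      tB_scalar C hε (hx.2 U hU _ (ten_mem_tsp C a hu)), mv_smul, mv_inv_mv]
  have hsp' : Split G' U := by
    constructor
    · by_contra hall
      push Not at hall
      obtain ⟨u, hu, hne'⟩ := hsp.1
      exact hne' ((back 1 (fun v hv => by rw [one_smul]; exact hall v hv) u hu).trans (one_smul _ u))
    · by_contra hall
      push Not at hall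
      obtain ⟨u, hu, hne'⟩ := hsp.2
      exact hne' ((back (-1) (fun v hv => by rw [neg_one_smul]; exact hall v hv) u hu).trans (neg_one_smul _ u))
  have hT : Commute (tA C a 1) (tB G : GL (α × β) F) := ext_ten_mv fun u w => by
    rw [mv_mul, mv_mul, tB_ten, tA, mv_kr_ten, mv_kr_ten, tB_ten, mv_one, mv_one]
  have hk := cent_invol C h𝒰 hfine hG' hU hsp'
    (Subgroup.mul_mem _ (Subgroup.mul_mem _ hx (tA_stab C 𝒰 a 1)) (Subgroup.inv_mem _ hx))
    (x := x * tA C a 1 * x⁻¹) (by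
      rw [← h, show x * tA C a 1 * x⁻¹ * (x * tB G * x⁻¹) = x * (tA C a 1 * tB G) * x⁻¹ by group, hT.eq]
      group)
  exact conj_kron C hs hne hx.1 ha0 one_ne_zero hk

theorem exists_kr {g : GL (α × β) F} (h : IsKron g) : ∃ A B, g = kr A B := by
  obtain ⟨A, B, h⟩ := h
  exact ⟨A, B, Units.ext h⟩

/-- The factors of a product in the overgroup are similitudes. -/
theorem kr_sim [Finite F] (C : Ctx f f₁ Q M) (ha : 0 < Fintype.card α) {A : GL α F} {B : GL β F}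
    (h : kr A B ∈ M) : ∃ c : F, c ≠ 0 ∧ (∀ p q, Orth.pol Q (mv B p) (mv B q) = c * Orth.pol Q p q) ∧
      ∀ u v, c * f₁ (mv A u) (mv A v) = f₁ u v := by
  obtain ⟨a, d, -, hda⟩ := exists_pair_alpha C ha
  obtain ⟨p₀, q₀, -, -, -, hpq, -, -, -⟩ := exists_hyp C
  have e : ∀ u v p q, f₁ (mv A u) (mv A v) * Orth.pol Q (mv B p) (mv B q) = f₁ u v * Orth.pol Q p q :=
    fun u v p q => by
    have := C.iso h (ten u p) (ten v q)
    rwa [mv_kr_ten, mv_kr_ten, C.hpol, C.hpol] at this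
  have e0 := e d a p₀ q₀
  rw [hda, hpq, one_mul] at e0
  obtain ⟨c, hc⟩ : ∃ c, c = Orth.pol Q (mv B p₀) (mv B q₀) := ⟨_, rfl⟩
  rw [← hc] at e0
  have hc0 : c ≠ 0 := right_ne_zero_of_mul (e0 ▸ one_ne_zero)
  refine ⟨c, hc0, fun p q => ?_, fun u v => ?_⟩
  · have := e d a p q
    rw [hda, one_mul] at this
    linear_combination c * this - Orth.pol Q (mv B p) (mv B q) * e0
  · have := e u v p₀ q₀
    rw [hpq, mul_one, ← hc] at this
    linear_combination this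

theorem kr_conj_tB (A : GL α F) (B G : GL β F) :
    kr A B * tB G * (kr A B)⁻¹ = (tB (B * G * B⁻¹) : GL (α × β) F) := by
  rw [mul_inv_eq_iff_eq_mul]
  refine ext_ten_mv fun u w => ?_
  rw [mv_mul, mv_mul, tB_ten, mv_kr_ten, mv_kr_ten, tB_ten, mv_mul, mv_mul, mv_inv_mv]

theorem kr_pres (C : Ctx f f₁ Q M) (ha : 0 < Fintype.card α) {𝒰 : Set (Submodule F (β → F))} {A : GL α F}
    {B : GL β F} (h : kr A B ∈ stabH f₁ M 𝒰) {U : Submodule F (β → F)} (hU : U ∈ 𝒰) {u : β → F} (hu : u ∈ U) :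
    mv B u ∈ U := by
  obtain ⟨a, d, -, hda⟩ := exists_pair_alpha C ha
  have e := mem_tsp.1 (h.2 U hU _ (ten_mem_tsp C (mv A⁻¹ d) hu)) a
  rwa [mv_kr_ten, mv_mv_inv, piv_ten C, hda, one_smul] at e

/-- A conjugate of an involution which is a product commuting with a reflection. -/
theorem eigen [Finite F] (C : Ctx f f₁ Q M) (hs : 3 ≤ Fintype.card α)
    (hne : M ≠ preserving (Units.coeHom (Matrix (α × β) (α × β) F)) f) {𝒰 : Set (Submodule F (β → F))}
    (h𝒰 : Good Q 𝒰) (hfine : Fine f₁ Q M 𝒰) {G : GL β F} (hG : Invol Q 𝒰 G) {U : Submodule F (β → F)}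
    (hU : U ∈ 𝒰) (hsp : Split G U) {x : GL (α × β) F} (hx : x ∈ stabH f₁ M 𝒰) {z : β → F} (hz : Q z ≠ 0)
    {R : GL β F} (hR : Orth.IsRefl Q R z) (hk : IsKron (x * tB G * x⁻¹))
    (hcom : x * tB G * x⁻¹ * tB R = tB R * (x * tB G * x⁻¹)) : IsKron x := by
  have hQ := C.hQ
  have h2 := C.h2
  obtain ⟨A, B, hAB⟩ := exists_kr hk
  have hkM : kr A B ∈ M := hAB ▸ M.mul_mem (M.mul_mem hx.1 (tB_mem C hG.iso)) (M.inv_mem hx.1)
  have hksq : kr A B * kr A B = (1 : GL (α × β) F) := by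
    rw [← hAB, show x * tB G * x⁻¹ * (x * tB G * x⁻¹) = x * (tB G * tB G) * x⁻¹ by group, ← tB_mul, hG.sq,
      tB_one, mul_one, mul_inv_cancel]
  obtain ⟨a₀, d, ha0, hda⟩ := exists_pair_alpha C (by omega)
  have hz0 : z ≠ 0 := fun h => hz (by rw [h, Orth.q_zero hQ])
  have hzz : Orth.pol Q z z = 2 * Q z := Orth.pol_self hQ z
  have hBR : mv B (mv R z) = mv R (mv B z) := by
    have := congrArg (fun g => mv g (ten (mv A⁻¹ a₀) z)) (hAB ▸ hcom)
    simp only [mv_mul, tB_ten, mv_kr_ten, mv_mv_inv] at this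
    exact ten_right_inj ha0 this
  obtain ⟨γ, hγ⟩ : ∃ γ, γ = Orth.pol Q (mv B z) z / (2 * Q z) := ⟨_, rfl⟩
  have hBz : mv B z = γ • z := by
    rw [hR.2 z, hzz, mul_div_cancel_right₀ _ hz, hR.2 (mv B z), mv_sub, mv_smul] at hBR
    have e : (2 : F) • mv B z = (Orth.pol Q (mv B z) z / Q z) • z := by linear_combination (norm := module) -hBR
    rw [← inv_smul_smul₀ h2 (mv B z), e, smul_smul, hγ]
    congr 1
    field_simp
  have hγ0 : γ ≠ 0 := fun h => hz0 (mv_inj B (by rw [hBz, h, zero_smul, mv_zero]))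
  have happ : ∀ u, mv (kr A B) (ten u z) = ten (γ • mv A u) z := fun u => by
    rw [mv_kr_ten, hBz, ten_smul_right, ten_smul_left]
  have hinv : ∀ u, γ • mv A (γ • mv A u) = u := fun u => ten_left_inj hz0 (by
    rw [← happ, ← happ, ← mv_mul, hksq, mv_one])
  have hiso : ∀ u v, f₁ (γ • mv A u) (γ • mv A v) = f₁ u v := fun u v => by
    have := C.iso hkM (ten u z) (ten v z)
    rw [happ, happ, C.hpol, C.hpol, hzz] at this
    exact mul_right_cancel₀ (mul_ne_zero h2 hz) this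
  obtain ⟨v, ε, hv, hε, hAv⟩ : ∃ (v : α → F) (ε : F), v ≠ 0 ∧ ε * ε = 1 ∧ γ • mv A v = ε • v := by
    by_cases h0 : a₀ + γ • mv A a₀ = 0
    · refine ⟨a₀, -1, ha0, by ring, ?_⟩
      rw [neg_one_smul]; exact eq_neg_of_add_eq_zero_right h0
    · refine ⟨_, 1, h0, one_mul 1, ?_⟩
      rw [one_smul, mv_add, smul_add, hinv, add_comm]
  have hAv' : mv A v = (γ⁻¹ * ε) • v := by rw [mul_smul, ← hAv, inv_smul_smul₀ hγ0]
  have hTk : kr A B * tA C v 1 = tA C v 1 * kr A B := by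
    refine ext_ten_mv fun u w => ?_
    rw [mv_mul, mv_mul, tA, mv_kr_ten, mv_kr_ten, mv_kr_ten, mv_kr_ten, mv_one, mv_one, mv_stv, mv_stv]
    congr 1
    have e := hiso u v
    rw [hAv, C.h₁.bilinear.smul_left, C.h₁.bilinear.smul_right] at e
    rw [mv_add, mv_smul, hAv', one_mul, one_mul, smul_smul]
    congr 2
    rw [← e]
    field_simp
    linear_combination f₁ (mv A u) v * hε
  have hmem := Subgroup.mul_mem _ (Subgroup.mul_mem _ (Subgroup.inv_mem _ hx) (tA_stab C 𝒰 v 1)) hx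
  have hc := cent_invol C h𝒰 hfine hG hU hsp hmem (x := x⁻¹ * tA C v 1 * x) (by
    rw [← hAB] at hTk
    calc x⁻¹ * tA C v 1 * x * tB G = x⁻¹ * (tA C v 1 * (x * tB G * x⁻¹)) * x := by group
      _ = x⁻¹ * (x * tB G * x⁻¹ * tA C v 1) * x := by rw [hTk]
      _ = tB G * (x⁻¹ * tA C v 1 * x) := by group)
  simpa using TensorMax.U.isKron_inv (conj_kron C hs hne (M.inv_mem hx.1) hv one_ne_zero (by rwa [inv_inv]))

end Cfsg.Agent.SympTensorGen
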