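/-
If every conjugate of one involution of the second factor is a product, so is every member.
-/
import Cfsg.Agent.Lib.SympTensorGen.Invol

set_option autoImplicit false
set_option linter.all false

namespace Cfsg.Agent.SympTensorGen

open scoped Matrix Kronecker
open Matrix Cfsg.Agent.Transvec Cfsg.Agent.TensorMax
open Cfsg.Agent.TensorMax.U (kr mv_kr_ten isKron_kr ext_ten_mv isKron_mul isKron_inv)

variable {α β : Type} [Fintype α] [DecidableEq α] [Fintype β] [DecidableEq β] {F : Type*} [Field F]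
variable {f : (α × β → F) → (α × β → F) → F} {f₁ : (α → F) → (α → F) → F} {Q : (β → F) → F}
variable {M : Subgroup (GL (α × β) F)}

/-- All conjugates inside a subgroup are products. -/
def AllKron (H : Subgroup (GL (α × β) F)) (y : GL (α × β) F) : Prop := ∀ h ∈ H, IsKron (h * y * h⁻¹)

theorem AllKron.mul {H : Subgroup (GL (α × β) F)} {y y' : GL (α × β) F} (h : AllKron H y) (h' : AllKron H y') :
    AllKron H (y * y') := fun x hx => by
  rw [show x * (y * y') * x⁻¹ = (x * y * x⁻¹) * (x * y' * x⁻¹) by group]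
  exact isKron_mul (h x hx) (h' x hx)

theorem AllKron.inv {H : Subgroup (GL (α × β) F)} {y : GL (α × β) F} (h : AllKron H y) : AllKron H y⁻¹ :=
  fun x hx => by
  rw [show x * y⁻¹ * x⁻¹ = (x * y * x⁻¹)⁻¹ by group]
  exact isKron_inv (h x hx)

theorem AllKron.conj {H : Subgroup (GL (α × β) F)} {y k : GL (α × β) F} (h : AllKron H y) (hk : k ∈ H) :
    AllKron H (k * y * k⁻¹) := fun x hx => by
  rw [show x * (k * y * k⁻¹) * x⁻¹ = (x * k) * y * (x * k)⁻¹ by group]
  exact h _ (H.mul_mem hx hk)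

theorem kr_conj_tA (C : Ctx f f₁ Q M) (A : GL α F) (B : GL β F) {c : F}
    (hA : ∀ u v, c * f₁ (mv A u) (mv A v) = f₁ u v) (w : α → F) (s : F) :
    kr A B * tA C w s * (kr A B)⁻¹ = tA C (mv A w) (s * c) := by
  rw [mul_inv_eq_iff_eq_mul]
  refine ext_ten_mv fun u p => ?_
  rw [mv_mul, mv_mul, tA, tA, mv_kr_ten, mv_kr_ten, mv_kr_ten, mv_kr_ten, mv_one, mv_one, mv_stv, mv_stv, mv_add,
    mv_smul, mul_assoc, hA]

theorem shear_stab (C : Ctx f f₁ Q M) (𝒰 : Set (Submodule F (β → F))) {e u : α → F} (hu : f₁ u e = 0) :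
    kr (qv C.h₁ e u 0) (1 : GL β F) ∈ stabH f₁ M 𝒰 :=
  ⟨C.kr_mem _ _ (shear_iso C hu) mv_one_pol, fun U hU x hx => mem_tsp.2 fun a => by
    rw [piv_kr C _ _ (shear_iso C hu), mv_one]; exact mem_tsp.1 hx _⟩

theorem shear_conj (C : Ctx f f₁ Q M) {e u : α → F} (hu : f₁ u e = 0) (w : α → F) (s : F) :
    kr (qv C.h₁ e u 0) (1 : GL β F) * tA C w s * (kr (qv C.h₁ e u 0) 1)⁻¹ =
      tA C (w + f₁ w e • u + f₁ w u • e) s := by
  rw [kr_conj_tA C _ _ (c := 1) (fun a b => by rw [one_mul, shear_iso C hu]), mul_one, mv_qv C.h₁ hu, zero_mul,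
    zero_smul, add_zero]

theorem exists_dual_vec (C : Ctx f f₁ Q M) {a b : α → F} (ha : a ≠ 0) (hab : b ∉ Submodule.span F {a}) :
    ∃ u, f₁ u a = 0 ∧ f₁ b u = 1 := by
  obtain ⟨φ, hφ0, hφ⟩ := Submodule.exists_dual_map_eq_bot_of_notMem hab inferInstance
  obtain ⟨u, hu⟩ := Transvec.exists_eq_f C.h₁ ((φ b)⁻¹ • φ)
  have h0 : φ a = 0 := by
    have : φ a ∈ (Submodule.span F {a}).map φ := Submodule.mem_map_of_mem (Submodule.mem_span_singleton_self a)
    rwa [hφ, Submodule.mem_bot] at this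
  refine ⟨u, (f_eq_zero_comm C.h₁).1 ?_, ?_⟩
  · rw [← hu, LinearMap.smul_apply, h0, smul_zero]
  · rw [← hu, LinearMap.smul_apply, smul_eq_mul, inv_mul_cancel₀ hφ0]

/-- Two orthogonal transvections give one. -/
theorem single_of_orth (C : Ctx f f₁ Q M) {H : Subgroup (GL (α × β) F)}
    (hS : ∀ e u, f₁ u e = 0 → kr (qv C.h₁ e u 0) (1 : GL β F) ∈ H) {a b : α → F} {c₁ c₂ : F} (ha : a ≠ 0)
    (hab : b ∉ Submodule.span F {a}) (hf : f₁ a b = 0) (hP : AllKron H (tA C a c₁ * tA C b c₂)) :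
    AllKron H (tA C a (2 * c₂)) := by
  obtain ⟨u, hua, hbu⟩ := exists_dual_vec C ha hab
  have hau : f₁ a u = 0 := (f_eq_zero_comm C.h₁).1 hua
  have hba : f₁ b a = 0 := (f_eq_zero_comm C.h₁).1 hf
  have D : ∀ σ : F, AllKron H (tA C a c₁ * tA C (b + σ • a) c₂) := fun σ => by
    have hσ : f₁ (σ • u) a = 0 := by rw [C.h₁.bilinear.smul_left, hua, mul_zero]
    have h1 := hP.conj (hS a (σ • u) hσ)
    rwa [show ∀ k : GL (α × β) F, k * (tA C a c₁ * tA C b c₂) * k⁻¹ =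
        (k * tA C a c₁ * k⁻¹) * (k * tA C b c₂ * k⁻¹) from fun k => by group, shear_conj C hσ, shear_conj C hσ,
      C.h₁.alternating, hba, C.h₁.bilinear.smul_right, C.h₁.bilinear.smul_right, hau, hbu, mul_zero, mul_one,
      zero_smul, zero_smul, add_zero, add_zero, add_zero] at h1
  have h := (((D 1).mul (D (-1))).mul hP.inv).mul hP.inv
  have haa := C.h₁.alternating a
  have hbb := C.h₁.alternating b
  have hpn : ∀ (v : α → F) (y : α × β → F), piv f₁ (-v) y = -piv f₁ v y := fun v y => by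
    rw [← neg_one_smul F v, piv_smul C, neg_one_smul]
  have hnr : ∀ (v : α → F) (p : β → F), ten v (-p) = -ten v p := fun v p => map_neg (lam v) p
  convert h using 1
  refine ext_mv fun x => ?_
  simp only [_root_.mul_inv_rev, tA_inv, mv_mul, mv_tA, one_smul, neg_smul, piv_add C, map_add, map_neg, map_smul,
    piv_ten C, piv_smul C, C.h₁.bilinear.add_left, C.h₁.bilinear.add_right, C.h₁.bilinear.smul_left,
    C.h₁.bilinear.smul_right, Transvec.f_neg_right C.h₁, hf, hba, haa, hbb, ten_add_left, ten_add_right,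
    ten_smul_left, ten_smul_right, ten_neg_left, hpn, hnr, smul_add, smul_neg, neg_neg, add_zero, zero_add, neg_zero,
    mul_zero, zero_mul, zero_smul, smul_zero, ten_zero_right, ten_zero_left]
  module

theorem single_of_pair (C : Ctx f f₁ Q M) (hs : 3 ≤ Fintype.card α) {H : Subgroup (GL (α × β) F)}
    (hS : ∀ e u, f₁ u e = 0 → kr (qv C.h₁ e u 0) (1 : GL β F) ∈ H) {a b : α → F} {c₁ c₂ : F} (ha : a ≠ 0)
    (hc₁ : c₁ ≠ 0) (hc₂ : c₂ ≠ 0) (hab : b ∉ Submodule.span F {a}) (hP : AllKron H (tA C a c₁ * tA C b c₂)) :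
    ∃ a' t, a' ≠ 0 ∧ t ≠ 0 ∧ AllKron H (tA C a' t) := by
  by_cases hf : f₁ a b = 0
  · exact ⟨a, 2 * c₂, ha, mul_ne_zero C.h2 hc₂, single_of_orth C hS ha hab hf hP⟩
  let Φ : (α → F) →ₗ[F] F × F :=
    { toFun := fun z => (f₁ z a, f₁ z b)
      map_add' := fun z z' => Prod.ext (C.h₁.bilinear.add_left _ _ _) (C.h₁.bilinear.add_left _ _ _)
      map_smul' := fun c z => Prod.ext (C.h₁.bilinear.smul_left _ _ _) (C.h₁.bilinear.smul_left _ _ _) }
  obtain ⟨z, hz, hz0⟩ := (LinearMap.ker Φ).ne_bot_iff.1 (LinearMap.ker_ne_bot_of_finrank_lt (by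
    rw [Module.finrank_prod, Module.finrank_self, Module.finrank_pi]; omega))
  have hza : f₁ z a = 0 := congrArg Prod.fst (LinearMap.mem_ker.1 hz)
  have hzb : f₁ z b = 0 := congrArg Prod.snd (LinearMap.mem_ker.1 hz)
  have haz : f₁ a z = 0 := (f_eq_zero_comm C.h₁).1 hza
  have hbz : f₁ b z = 0 := (f_eq_zero_comm C.h₁).1 hzb
  have hu : f₁ ((f₁ a b)⁻¹ • b) z = 0 := by rw [C.h₁.bilinear.smul_left, hbz, mul_zero]
  have h1 := hP.conj (hS z _ hu)
  rw [show ∀ k : GL (α × β) F, k * (tA C a c₁ * tA C b c₂) * k⁻¹ =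
      (k * tA C a c₁ * k⁻¹) * (k * tA C b c₂ * k⁻¹) from fun k => by group, shear_conj C hu, shear_conj C hu,
    haz, hbz, C.h₁.bilinear.smul_right, C.h₁.bilinear.smul_right, C.h₁.alternating, inv_mul_cancel₀ hf, mul_zero,
    zero_smul, zero_smul, add_zero, add_zero, one_smul, add_zero] at h1
  have h2 := h1.mul hP.inv
  rw [_root_.mul_inv_rev, show ∀ p q r : GL (α × β) F, p * q * (q⁻¹ * r) = p * r from fun p q r => by group, tA_inv C a] at h2
  have hind : a ∉ Submodule.span F {a + z} := by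
    intro hm
    obtain ⟨r, hr⟩ := Submodule.mem_span_singleton.1 hm
    have e1 := congrArg (fun x => f₁ x b) hr
    simp only [C.h₁.bilinear.smul_left, C.h₁.bilinear.add_left, hzb, add_zero] at e1
    have hr1 : r = 1 := mul_right_cancel₀ hf (e1.trans (one_mul _).symm)
    rw [hr1, one_smul, add_eq_left] at hr
    exact hz0 hr
  refine ⟨a + z, 2 * -c₁, fun h0 => ?_, mul_ne_zero C.h2 (neg_ne_zero.2 hc₁),
    single_of_orth C hS (fun h0 => ?_) hind (by rw [C.h₁.bilinear.add_left, C.h₁.alternating, hza, add_zero]) h2⟩ <;>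
  · have e1 := congrArg (fun x => f₁ x b) h0
    simp only [C.h₁.bilinear.add_left, hzb, add_zero, f_zero_left C.h₁] at e1
    exact hf e1

/-- If every conjugate of one involution of the second factor is a product, so is every member. -/
theorem finish [Finite F] (C : Ctx f f₁ Q M) (hs : 3 ≤ Fintype.card α)
    (hne : M ≠ preserving (Units.coeHom (Matrix (α × β) (α × β) F)) f) {𝒰 : Set (Submodule F (β → F))}
    (h𝒰 : Good Q 𝒰) (hfine : Fine f₁ Q M 𝒰) {G : GL β F} (hG : Invol Q 𝒰 G) {U : Submodule F (β → F)}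
    (hU : U ∈ 𝒰) (hsp : Split G U) (hP : AllKron (stabH f₁ M 𝒰) (tB G)) {g : GL (α × β) F}
    (hg : g ∈ stabH f₁ M 𝒰) : IsKron g := by
  obtain ⟨A, B, hAB⟩ := exists_kr (hP g hg)
  by_cases hA : ∀ u : α → F, ¬ LinearIndependent F ![u, mv A u]
  · obtain ⟨c, hc⟩ := LinearMap.exists_eq_smul_id_of_forall_notLinearIndependent (f := mvLin A)
      (fun u => by rw [Matrix.toLin'_apply]; exact hA u)
    have hc' : ∀ u, mv A u = c • u := fun u => by
      have := LinearMap.congr_fun hc u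
      rwa [Matrix.toLin'_apply, LinearMap.smul_apply, Module.End.one_apply] at this
    obtain ⟨a, -, ha0, -⟩ := exists_pair_alpha C (by omega)
    have hc0 : c ≠ 0 := fun h => ha0 (mv_inj A (by rw [hc', h, zero_smul, mv_zero]))
    obtain ⟨S, hS⟩ : ∃ S : GL β F, ∀ w, mv S w = c • w :=
      ⟨Units.map (algebraMap F (Matrix β β F)).toMonoidHom (Units.mk0 c hc0), fun w => by
        simp [mv, Algebra.algebraMap_eq_smul_one, Matrix.smul_mulVec, Matrix.one_mulVec]⟩
    refine conj_B C hs hne h𝒰 hfine hG hU hsp hg (G' := B * S) ?_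
    rw [hAB]
    exact ext_ten_mv fun u w => by
      rw [mv_kr_ten, tB_ten, mv_mul, hS, hc', mv_smul, ten_smul_left, ten_smul_right]
  push Not at hA
  obtain ⟨w, hw⟩ := hA
  have hw0 : w ≠ 0 := by simpa using hw.ne_zero 0
  have hnot : mv A w ∉ Submodule.span F {w} := fun hm => by
    obtain ⟨c, hc⟩ := Submodule.mem_span_singleton.1 hm
    exact ((LinearIndependent.pair_iff.1 hw) c (-1) (by rw [hc, neg_one_smul, add_neg_cancel])).2 |>
      neg_ne_zero.2 one_ne_zero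
  have hkM : kr A B ∈ stabH f₁ M 𝒰 :=
    hAB ▸ Subgroup.mul_mem _ (Subgroup.mul_mem _ hg (hG.mem C)) (Subgroup.inv_mem _ hg)
  obtain ⟨c, hc, -, hcA⟩ := kr_sim C (by omega) hkM.1
  have hk : AllKron (stabH f₁ M 𝒰) (kr A B) := hAB ▸ hP.conj hg
  have hy := (hk.conj (tA_stab C 𝒰 w 1)).mul hk.inv
  rw [tA_inv C w, show ∀ p q r : GL (α × β) F, p * q * r * q⁻¹ = p * (q * r * q⁻¹) from fun p q r => by group,
    kr_conj_tA C A B hcA] at hy
  obtain ⟨a, t, ha, ht, h⟩ := single_of_pair C hs (fun e u hu => shear_stab C 𝒰 hu) hw0 one_ne_zero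
    (mul_ne_zero (neg_ne_zero.2 one_ne_zero) hc) hnot hy
  exact conj_kron C hs hne hg.1 ha ht (h g hg)

/-- Two involutions: conjugate, or a central involution of their group with two properties. -/
theorem dihedral {G : Type*} [Group G] [Finite G] {H : Subgroup G} {t s : G} (ht : t * t = 1) (hs : s * s = 1)
    (htH : t ∈ H) (hsH : s ∈ H) (hnc : ∀ x ∈ H, x * t * x⁻¹ ≠ s) :
    ∃ z ∈ H, z ≠ 1 ∧ z * z = 1 ∧ t * z = z * t ∧ s * z = z * s ∧
      ∃ x ∈ H, t * z = x * t * x⁻¹ ∨ t * z = x * s * x⁻¹ := by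
  obtain ⟨r, hr⟩ : ∃ r, r = t * s := ⟨_, rfl⟩
  have hrH : r ∈ H := hr ▸ H.mul_mem htH hsH
  have hti : t⁻¹ = t := inv_eq_of_mul_eq_one_right ht
  have hsi : s⁻¹ = s := inv_eq_of_mul_eq_one_right hs
  have htr : ∀ n : ℤ, t * r ^ n * t⁻¹ = r ^ (-n) := fun n => by
    rw [← _root_.conj_zpow, _root_.zpow_neg, ← _root_.inv_zpow]
    congr 1
    rw [hr, _root_.mul_inv_rev, hsi, hti, ← mul_assoc, ht, one_mul]
  have hsr : ∀ n : ℤ, s * r ^ n * s⁻¹ = r ^ (-n) := fun n => by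
    rw [← _root_.conj_zpow, _root_.zpow_neg, ← _root_.inv_zpow]
    congr 1
    rw [hr, _root_.mul_inv_rev, hsi, hti, mul_assoc, mul_assoc, hs, mul_one]
  have key : ∀ n : ℤ, r ^ n * t * (r ^ n)⁻¹ = t * r ^ (-(2 * n)) := fun n => by
    have h1 : r ^ n * t = t * r ^ (-n) := by rw [← htr n, hti, ← mul_assoc, ← mul_assoc, ht, one_mul]
    rw [h1, mul_assoc, ← _root_.zpow_neg, ← _root_.zpow_add]
    congr 2; ring
  have hst : s = t * r := by rw [hr, ← mul_assoc, ht, one_mul]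
  rcases Nat.even_or_odd' (orderOf r) with ⟨k, hk | hk⟩
  swap
  · exfalso
    refine hnc (r ^ (k : ℤ)) (H.zpow_mem hrH _) ?_
    have h1 : r ^ (2 * (k : ℤ) + 1) = 1 := by
      rw [show (2 * (k : ℤ) + 1) = ((2 * k + 1 : ℕ) : ℤ) by push_cast; ring, _root_.zpow_natCast, ← hk, pow_orderOf_eq_one]
    rw [key, hst]
    congr 1
    rw [show -(2 * (k : ℤ)) = -(2 * (k : ℤ) + 1) + 1 by ring, _root_.zpow_add, _root_.zpow_one, _root_.zpow_neg, h1, inv_one, one_mul]
  have hpos := orderOf_pos r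
  have h2k : r ^ (2 * (k : ℤ)) = 1 := by
    rw [show (2 * (k : ℤ)) = ((2 * k : ℕ) : ℤ) by push_cast; ring, _root_.zpow_natCast, ← hk, pow_orderOf_eq_one]
  have hzi : r ^ (-(k : ℤ)) = r ^ (k : ℤ) := by
    rw [show -(k : ℤ) = -(2 * (k : ℤ)) + k by ring, _root_.zpow_add, _root_.zpow_neg, h2k, inv_one, one_mul]
  refine ⟨r ^ (k : ℤ), H.zpow_mem hrH _, fun h => ?_, by rw [← _root_.zpow_add, ← two_mul, h2k], ?_, ?_, ?_⟩
  · rw [_root_.zpow_natCast] at h
    have := Nat.le_of_dvd (by omega) (orderOf_dvd_of_pow_eq_one h)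
    omega
  · have := htr k
    rwa [hzi, mul_inv_eq_iff_eq_mul] at this
  · have := hsr k
    rwa [hzi, mul_inv_eq_iff_eq_mul] at this
  obtain ⟨j, hj | hj⟩ := Nat.even_or_odd' k
  · refine ⟨r ^ (j : ℤ), H.zpow_mem hrH _, Or.inl ?_⟩
    rw [key, show -(2 * (j : ℤ)) = -(k : ℤ) by rw [hj]; push_cast; ring, hzi]
  · refine ⟨r ^ (-(j : ℤ)), H.zpow_mem hrH _, Or.inr ?_⟩
    rw [hst, ← mul_assoc, show r ^ (-(j : ℤ)) * t = t * r ^ (j : ℤ) by
      have := htr j
      rw [mul_inv_eq_iff_eq_mul] at this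
      exact this.symm, mul_assoc (t * r ^ (j : ℤ)), mul_assoc t, ← _root_.zpow_neg_one, ← _root_.zpow_mul, ← _root_.zpow_one_add,
      ← _root_.zpow_add]
    congr 2
    rw [hj]; push_cast; ring

end Cfsg.Agent.SympTensorGen
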