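/-
The two involutions used on a large piece.
-/
import Cfsg.Agent.Lib.SympTensorGen.Finish

set_option autoImplicit false
set_option linter.all false

namespace Cfsg.Agent.SympTensorGen

open scoped Matrix Kronecker
open Matrix Cfsg.Agent.Transvec Cfsg.Agent.TensorMax
open Cfsg.Agent.TensorMax.U (kr mv_kr_ten)

variable {α β : Type} [Fintype α] [DecidableEq α] [Fintype β] [DecidableEq β] {F : Type*} [Field F]
variable {f : (α × β → F) → (α × β → F) → F} {f₁ : (α → F) → (α → F) → F} {Q : (β → F) → F}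
variable {M : Subgroup (GL (α × β) F)}

/-- An involution living on one piece with a small negative space. -/
structure Piece (Q : (β → F) → F) (𝒰 : Set (Submodule F (β → F))) (U : Submodule F (β → F)) (G : GL β F) : Prop where
  inv : Invol Q 𝒰 G
  split : Split G U
  fix : ∀ V ∈ 𝒰, V ≠ U → ∀ u ∈ V, mv G u = u
  neg : ∃ K : Submodule F (β → F), Module.finrank F K + 2 ≤ Module.finrank F U ∧ ∀ p, mv G p = -p → p ∈ K

theorem refl_neg (hQ : Geo.IsNondegenerateQuadraticForm Q) (h2 : (2 : F) ≠ 0) {z : β → F} {R : GL β F}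
    (hR : Orth.IsRefl Q R z) {p : β → F} (hp : mv R p = -p) : p ∈ Submodule.span F {z} := by
  rw [hR.2, sub_eq_iff_eq_add] at hp
  refine Submodule.mem_span_singleton.2 ⟨2⁻¹ * (Orth.pol Q p z / Q z), ?_⟩
  have e : (2 : F) • p = (Orth.pol Q p z / Q z) • z := by linear_combination (norm := module) hp
  rw [mul_smul, ← e, inv_smul_smul₀ h2]

theorem refl_self (hQ : Geo.IsNondegenerateQuadraticForm Q) {z : β → F} {R : GL β F} (hR : Orth.IsRefl Q R z) :
    mv R z = -z := by
  rw [hR.2, Orth.pol_self hQ, mul_div_cancel_right₀ _ hR.1]; module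

theorem refl_piece (hQ : Geo.IsNondegenerateQuadraticForm Q) (h2 : (2 : F) ≠ 0)
    {𝒰 : Set (Submodule F (β → F))} (h𝒰 : Good Q 𝒰) {U : Submodule F (β → F)} (hU : U ∈ 𝒰)
    (h3 : 3 ≤ Module.finrank F U) {z : β → F} (hzU : z ∈ U) {R : GL β F} (hR : R ∈ isometryGroup F Q)
    (hRr : Orth.IsRefl Q R z) : Piece Q 𝒰 U R := by
  have hz0 : z ≠ 0 := fun h => hRr.1 (by rw [h, Orth.q_zero hQ])
  have hfix : ∀ V ∈ 𝒰, V ≠ U → ∀ u ∈ V, mv R u = u := fun V hV hne u hu =>
    Orth.isRefl_fix hRr (h𝒰.orth V hV U hU hne u hu z hzU)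
  refine ⟨⟨hR, refl_invol hQ hRr, fun V hV u hu => ?_⟩, ⟨⟨z, hzU, fun h => ?_⟩, ?_⟩, hfix,
    ⟨Submodule.span F {z}, by rw [finrank_span_singleton hz0]; omega, fun p hp => refl_neg hQ h2 hRr hp⟩⟩
  · by_cases hVU : V = U
    · subst hVU; rw [hRr.2]; exact V.sub_mem hu (V.smul_mem _ hzU)
    · rw [hfix V hV hVU u hu]; exact hu
  · rw [refl_self hQ hRr, neg_eq_iff_add_eq_zero, ← two_smul F, smul_eq_zero] at h
    exact hz0 (h.resolve_left h2)
  · obtain ⟨-, hd⟩ := Orth.nondeg_perp hQ h2 (h𝒰.nondeg U hU) hzU hRr.1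
    obtain ⟨y, hy, hy0⟩ := (U ⊓ Orth.orth hQ (Submodule.span F {z})).ne_bot_iff.1 (fun h => by
      rw [h, finrank_bot] at hd; omega)
    refine ⟨y, hy.1, fun h => hy0 ?_⟩
    rw [Orth.isRefl_fix hRr (by rw [Orth.pol_comm]; exact hy.2 z (Submodule.mem_span_singleton_self z)),
      eq_neg_iff_add_eq_zero, ← two_smul F, smul_eq_zero] at h
    exact h.resolve_left h2

theorem pol_sum {ι : Type*} (hQ : Geo.IsNondegenerateQuadraticForm Q) (s : Finset ι) (c : ι → F) (v : ι → β → F)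
    (y : β → F) : Orth.pol Q (∑ k ∈ s, c k • v k) y = ∑ k ∈ s, c k * Orth.pol Q (v k) y := by
  rw [← Orth.formQ_apply hQ, map_sum]
  simp only [map_smul, smul_eq_mul, Orth.formQ_apply]

/-- A similitude of a three dimensional piece has a square multiplier. -/
theorem square_of_three (hQ : Geo.IsNondegenerateQuadraticForm Q) {U : Submodule F (β → F)}
    (hU : Orth.Nondeg Q U) (h3 : Module.finrank F U = 3) {B : GL β F} (hB : ∀ u ∈ U, mv B u ∈ U) {c : F}
    (hc : c ≠ 0) (hsim : ∀ p q, Orth.pol Q (mv B p) (mv B q) = c * Orth.pol Q p q) : IsSquare c := by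
  let b := Module.finBasisOfFinrankEq F U h3
  let v : Fin 3 → β → F := fun i => (b i : β → F)
  let G : Matrix (Fin 3) (Fin 3) F := Matrix.of fun i j => Orth.pol Q (v i) (v j)
  let P : Matrix (Fin 3) (Fin 3) F := Matrix.of fun k i => b.repr ⟨mv B (v i), hB _ (b i).2⟩ k
  have hv : ∀ x : U, (∑ k, b.repr x k • v k) = (x : β → F) := fun x => by
    have e : U.subtype (∑ k, b.repr x k • b k) = U.subtype x := congrArg U.subtype (b.sum_repr x)
    rw [map_sum] at e
    simp only [map_smul, Submodule.subtype_apply] at e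
    exact e
  have hG : G.det ≠ 0 := by
    intro h0
    obtain ⟨w, hw0, hw⟩ := Matrix.exists_mulVec_eq_zero_iff.2 h0
    have hx : (∑ j, w j • b j : U) = 0 := Subtype.ext (hU _ (∑ j, w j • b j : U).2 fun y hy => by
      rw [show y = ((⟨y, hy⟩ : U) : β → F) from rfl, ← hv, pol_sum hQ]
      refine Finset.sum_eq_zero fun k _ => ?_
      have e : Orth.pol Q (v k) ((∑ j, w j • b j : U) : β → F) = 0 := by
        rw [Orth.pol_comm, show ((∑ j, w j • b j : U) : β → F) = ∑ j, w j • v j by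
          simp [v, Submodule.coe_sum, Submodule.coe_smul], pol_sum hQ]
        refine Eq.trans (b := ∑ j, Orth.pol Q (v k) (v j) * w j) (Finset.sum_congr rfl fun j _ => ?_) (congrFun hw k)
        show w j * Orth.pol Q (v j) (v k) = Orth.pol Q (v k) (v j) * w j
        rw [Orth.pol_comm, mul_comm]
      rw [e, mul_zero])
    exact hw0 (funext fun j => Fintype.linearIndependent_iff.1 b.linearIndependent w hx j)
  have hPG : Pᵀ * G * P = c • G := by
    ext i j
    rw [Matrix.smul_apply, smul_eq_mul]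
    show _ = c * Orth.pol Q (v i) (v j)
    have eB : ∀ i, mv B (v i) = ∑ k, P k i • v k := fun i => (hv ⟨mv B (v i), hB _ (b i).2⟩).symm
    rw [← hsim, eB i, eB j, pol_sum hQ]
    simp only [Matrix.mul_apply, Matrix.transpose_apply, Finset.sum_mul]
    rw [Finset.sum_comm]
    refine Finset.sum_congr rfl fun k _ => ?_
    rw [Orth.pol_comm, pol_sum hQ, Finset.mul_sum]
    refine Finset.sum_congr rfl fun l _ => ?_
    show b.repr _ k * Orth.pol Q (v k) (v l) * b.repr _ l = P k i * (P l j * _)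
    rw [Orth.pol_comm (v l)]
    simp only [P, Matrix.of_apply]
    ring
  have e := congrArg Matrix.det hPG
  rw [Matrix.det_mul, Matrix.det_mul, Matrix.det_transpose, Matrix.det_smul, Fintype.card_fin] at e
  have e' : P.det ^ 2 = c ^ 3 := mul_right_cancel₀ hG (by linear_combination e)
  refine ⟨P.det / c, ?_⟩
  field_simp
  linear_combination -e'

/-- A second involution on the piece, not conjugate to the reflection by a similitude. -/
theorem exists_second [Finite F] (C : Ctx f f₁ Q M) (ha : 0 < Fintype.card α) {𝒰 : Set (Submodule F (β → F))}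
    (h𝒰 : Good Q 𝒰) {U : Submodule F (β → F)} (hU : U ∈ 𝒰) (h3 : 3 ≤ Module.finrank F U) {z : β → F}
    (hzU : z ∈ U) {R : GL β F} (hR : R ∈ isometryGroup F Q) (hRr : Orth.IsRefl Q R z) :
    ∃ R', Piece Q 𝒰 U R' ∧ ∀ (A : GL α F) (B : GL β F), kr A B ∈ stabH f₁ M 𝒰 → B * R * B⁻¹ ≠ R' := by
  have hQ := C.hQ
  have h2 := C.h2
  haveI : Fintype F := Fintype.ofFinite F
  obtain ⟨hn, hd⟩ := Orth.nondeg_perp hQ h2 (h𝒰.nondeg U hU) hzU hRr.1
  have hz0 : z ≠ 0 := fun h => hRr.1 (by rw [h, Orth.q_zero hQ])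
  have hP := refl_piece hQ h2 h𝒰 hU h3 hzU hR hRr
  have back : ∀ (B : GL β F) (R' : GL β F) (q : β → F), B * R * B⁻¹ = R' → mv R' q = -q →
      q ∈ Submodule.span F {mv B z} := fun B R' q h hq => by
    rw [← h, mv_mul, mv_mul] at hq
    have h1 : mv R (mv B⁻¹ q) = -mv B⁻¹ q := by rw [← mv_neg, ← hq, mv_inv_mv]
    obtain ⟨a, ha'⟩ := Submodule.mem_span_singleton.1 (refl_neg hQ h2 hRr h1)
    exact Submodule.mem_span_singleton.2 ⟨a, by rw [← mv_smul, ha', mv_mv_inv]⟩
  by_cases h4 : 4 ≤ Module.finrank F U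
  · obtain ⟨z', hz', hz'Q⟩ := Orth.exists_anisotropic hQ hn fun h => by rw [h, finrank_bot] at hd; omega
    obtain ⟨R₂, hR₂, hR₂r⟩ := Orth.exists_refl hQ hz'Q
    have hzz' : Orth.pol Q z z' = 0 := hz'.2 z (Submodule.mem_span_singleton_self z)
    have hz'z : Orth.pol Q z' z = 0 := by rw [Orth.pol_comm, hzz']
    have hP₂ := refl_piece hQ h2 h𝒰 hU h3 hz'.1 hR₂ hR₂r
    have hv : ∀ p, mv (R * R₂) p = p - (Orth.pol Q p z / Q z) • z - (Orth.pol Q p z' / Q z') • z' := fun p => by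
      rw [mv_mul, hR₂r.2, mv_sub, mv_smul, Orth.isRefl_fix hRr hz'z, hRr.2]
    have hcomm : R * R₂ = R₂ * R := ext_mv fun p => by
      rw [hv, mv_mul, hRr.2, mv_sub, mv_smul, Orth.isRefl_fix hR₂r hzz', hR₂r.2]; abel
    obtain ⟨hn', hd'⟩ := Orth.nondeg_perp hQ h2 hn hz' hz'Q
    obtain ⟨y, hy, hy0⟩ := ((U ⊓ Orth.orth hQ (Submodule.span F {z})) ⊓
      Orth.orth hQ (Submodule.span F {z'})).ne_bot_iff.1 (fun h => by rw [h, finrank_bot] at hd'; omega)
    have hyz : mv (R * R₂) y = y := by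
      rw [hv, Orth.pol_comm y z, hy.1.2 z (Submodule.mem_span_singleton_self z), Orth.pol_comm y z',
        hy.2 z' (Submodule.mem_span_singleton_self z'), zero_div, zero_div, zero_smul, zero_smul, sub_zero, sub_zero]
    have hzneg : mv (R * R₂) z = -z := by rw [mv_mul, Orth.isRefl_fix hR₂r hzz', refl_self hQ hRr]
    have hz'neg : mv (R * R₂) z' = -z' := by
      rw [mv_mul, refl_self hQ hR₂r, mv_neg, Orth.isRefl_fix hRr hz'z]
    refine ⟨R * R₂, ⟨⟨Subgroup.mul_mem _ hR hR₂, ?_, fun V hV u hu => ?_⟩,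
      ⟨⟨z, hzU, fun h => ?_⟩, ⟨y, hy.1.1, fun h => ?_⟩⟩, fun V hV hne u hu => ?_,
      ⟨Submodule.span F {z} ⊔ Submodule.span F {z'}, ?_, fun p hp => ?_⟩⟩, fun A B hAB h => ?_⟩
    · nth_rewrite 2 [hcomm]
      rw [mul_assoc, ← mul_assoc R₂ R₂, refl_invol hQ hR₂r, one_mul, refl_invol hQ hRr]
    · rw [mv_mul]; exact hP.inv.pres V hV _ (hP₂.inv.pres V hV u hu)
    · rw [hzneg, neg_eq_iff_add_eq_zero, ← two_smul F, smul_eq_zero] at h
      exact hz0 (h.resolve_left h2)
    · rw [hyz, eq_neg_iff_add_eq_zero, ← two_smul F, smul_eq_zero] at h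
      exact hy0 (h.resolve_left h2)
    · rw [mv_mul, hP₂.fix V hV hne u hu, hP.fix V hV hne u hu]
    · have := Submodule.finrank_add_le_finrank_add_finrank (Submodule.span F {z}) (Submodule.span F {z'})
      rw [finrank_span_singleton hz0,
        finrank_span_singleton (v := z') (fun h => hz'Q (by rw [h, Orth.q_zero hQ]))] at this
      omega
    · rw [hv] at hp
      have e : (2 : F) • p = (Orth.pol Q p z / Q z) • z + (Orth.pol Q p z' / Q z') • z' := by
        linear_combination (norm := module) hp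
      rw [← inv_smul_smul₀ h2 p, e]
      exact Submodule.smul_mem _ _ (Submodule.add_mem _
        (Submodule.mem_sup_left (Submodule.smul_mem _ _ (Submodule.mem_span_singleton_self z)))
        (Submodule.mem_sup_right (Submodule.smul_mem _ _ (Submodule.mem_span_singleton_self z'))))
    · obtain ⟨a, ha'⟩ := Submodule.mem_span_singleton.1 (back B _ z h hzneg)
      obtain ⟨b, hb'⟩ := Submodule.mem_span_singleton.1 (back B _ z' h hz'neg)
      have e1 : Orth.pol Q z z ≠ 0 := by rw [Orth.pol_self hQ]; exact mul_ne_zero h2 hRr.1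
      have e2 : Orth.pol Q z' z' ≠ 0 := by rw [Orth.pol_self hQ]; exact mul_ne_zero h2 hz'Q
      rw [← ha', Orth.pol_smul_left hQ, Orth.pol_smul_right hQ] at e1
      rw [← hb', Orth.pol_smul_left hQ, Orth.pol_smul_right hQ] at e2
      have e3 := hzz'
      rw [← ha', ← hb', Orth.pol_smul_left hQ, Orth.pol_smul_right hQ] at e3
      simp only [ne_eq, mul_eq_zero, not_or] at e1 e2
      exact mul_ne_zero e1.1 (mul_ne_zero e2.1 e1.2.2) e3
  · obtain ⟨ν, hν⟩ := FiniteField.exists_nonsquare (F := F) fun h => h2 (by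
      have : CharP F 2 := ringChar.eq_iff.1 h
      exact CharP.cast_eq_zero F 2)
    obtain ⟨w, hwU, hwQ⟩ := Orth.exists_value_plane hQ h2 (h𝒰.nondeg U hU) (by omega) (ν * Q z)
    have hν0 : ν ≠ 0 := fun h => hν ⟨0, by rw [h, mul_zero]⟩
    obtain ⟨R', hR', hR'r⟩ := Orth.exists_refl hQ (show Q w ≠ 0 by rw [hwQ]; exact mul_ne_zero hν0 hRr.1)
    refine ⟨R', refl_piece hQ h2 h𝒰 hU h3 hwU hR' hR'r, fun A B hAB h => hν ?_⟩
    obtain ⟨c, hc, hcB, -⟩ := kr_sim C ha hAB.1
    obtain ⟨γ, hγ⟩ := Submodule.mem_span_singleton.1 (back B R' w h (refl_self hQ hR'r))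
    have hsq := square_of_three hQ (h𝒰.nondeg U hU) (by omega) (fun u hu => kr_pres C ha hAB hU hu) hc hcB
    obtain ⟨s, hs⟩ := hsq
    have e := hcB z z
    rw [Orth.pol_self hQ, Orth.pol_self hQ] at e
    have e' : Q (mv B z) = c * Q z := mul_left_cancel₀ h2 (by linear_combination e)
    rw [← hγ, Orth.q_smul hQ, e', hs] at hwQ
    exact ⟨γ * s, mul_right_cancel₀ hRr.1 (by linear_combination -hwQ)⟩

end Cfsg.Agent.SympTensorGen
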