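/-
Descent through partitions of the second factor, and maximality in coordinates.
-/
import Cfsg.Agent.Lib.SympTensorGen.Second

set_option autoImplicit false
set_option linter.all false

namespace Cfsg.Agent.SympTensorGen

open scoped Matrix Kronecker
open Matrix Cfsg.Agent.Transvec Cfsg.Agent.TensorMax
open Cfsg.Agent.TensorMax.U (kr mv_kr_ten mv_kron_ten isKron_kr isKron_mul)

variable {α β : Type} [Fintype α] [DecidableEq α] [Fintype β] [DecidableEq β] {F : Type*} [Field F]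
variable {f : (α × β → F) → (α × β → F) → F} {f₁ : (α → F) → (α → F) → F} {Q : (β → F) → F}
variable {M : Subgroup (GL (α × β) F)}

theorem kr_inv (A : GL α F) (B : GL β F) : (kr A B)⁻¹ = kr A⁻¹ B⁻¹ := Units.ext rfl

/-- Orthogonal subspaces of the second factor give orthogonal subspaces. -/
theorem f_tsp_zero (C : Ctx f f₁ Q M) {U V : Submodule F (β → F)} (h : ∀ u ∈ U, ∀ v ∈ V, Orth.pol Q u v = 0)
    {x y : α × β → F} (hx : x ∈ tsp f₁ U) (hy : y ∈ tsp f₁ V) : f x y = 0 := by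
  have hle : tsp f₁ V ≤ LinearMap.ker ((LinearMap.applyₗ x).comp (formR C.hf)) := tsp_le C fun a l hl => by
    rw [LinearMap.mem_ker]
    show formR C.hf (ten a l) x = 0
    rw [formR_apply, f_ten C]
    exact h _ (mem_tsp.1 hx a) _ hl
  have := hle hy
  rw [LinearMap.mem_ker] at this
  exact this

/-- A large piece. -/
theorem step [Finite F] (C : Ctx f f₁ Q M) (hs : 4 ≤ Fintype.card α)
    (hne : M ≠ preserving (Units.coeHom (Matrix (α × β) (α × β) F)) f) {𝒰 : Set (Submodule F (β → F))}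
    (h𝒰 : Good Q 𝒰) (hfine : Fine f₁ Q M 𝒰) {U : Submodule F (β → F)} (hU : U ∈ 𝒰)
    (hbig : Fintype.card α < Module.finrank F U + 2) {g : GL (α × β) F} (hg : g ∈ stabH f₁ M 𝒰) : IsKron g := by
  have hQ := C.hQ
  have h2 := C.h2
  have ha : 0 < Fintype.card α := by omega
  have hs3 : 3 ≤ Fintype.card α := by omega
  have h3 : 3 ≤ Module.finrank F U := by omega
  obtain ⟨z, hzU, hzQ⟩ := Orth.exists_anisotropic hQ (h𝒰.nondeg U hU) (h𝒰.ne_bot U hU)
  obtain ⟨R, hR, hRr⟩ := Orth.exists_refl hQ hzQ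
  have hP := refl_piece hQ h2 h𝒰 hU h3 hzU hR hRr
  obtain ⟨R', hP', hnot⟩ := exists_second C ha h𝒰 hU h3 hzU hR hRr
  refine finish C hs3 hne h𝒰 hfine hP'.inv hU hP'.split (fun g hg => ?_) hg
  obtain ⟨t, ht⟩ : ∃ t : GL (α × β) F, t = tB R := ⟨_, rfl⟩
  obtain ⟨s, hs'⟩ : ∃ s : GL (α × β) F, s = g * tB R' * g⁻¹ := ⟨_, rfl⟩
  rw [← hs']
  have htH : t ∈ stabH f₁ M 𝒰 := ht ▸ hP.inv.mem C
  have hsH : s ∈ stabH f₁ M 𝒰 :=
    hs' ▸ Subgroup.mul_mem _ (Subgroup.mul_mem _ hg (hP'.inv.mem C)) (Subgroup.inv_mem _ hg)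
  have htt : t * t = 1 := by rw [ht, ← tB_mul, hP.inv.sq, tB_one]
  have hss : s * s = 1 := by
    rw [hs', show g * tB R' * g⁻¹ * (g * tB R' * g⁻¹) = g * (tB R' * tB R') * g⁻¹ by group, ← tB_mul, hP'.inv.sq,
      tB_one, mul_one, mul_inv_cancel]
  have hnc : ∀ x ∈ stabH f₁ M 𝒰, x * t * x⁻¹ ≠ s := fun x hx h => by
    have hx' : g⁻¹ * x ∈ stabH f₁ M 𝒰 := Subgroup.mul_mem _ (Subgroup.inv_mem _ hg) hx
    have he : g⁻¹ * x * tB R * (g⁻¹ * x)⁻¹ = tB R' := by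
      rw [← ht, show g⁻¹ * x * t * (g⁻¹ * x)⁻¹ = g⁻¹ * (x * t * x⁻¹) * g by group, h, hs']
      group
    obtain ⟨A, B, hAB⟩ := exists_kr (conj_B C hs3 hne h𝒰 hfine hP.inv hU hP.split hx' he)
    rw [hAB] at he hx'
    rw [kr_conj_tB] at he
    exact hnot A B hx' (tB_inj C ha he)
  obtain ⟨z₀, hz₀, hz₁, hzsq, htz, hsz, x, hx, hor⟩ := dihedral htt hss htH hsH hnc
  have hz₀K : IsKron z₀ :=
    cent_invol C h𝒰 hfine hP.inv hU hP.split hz₀ (by rw [← ht]; exact htz.symm)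
  obtain ⟨G, x', hx', hG, he⟩ : ∃ G x', x' ∈ stabH f₁ M 𝒰 ∧ Piece Q 𝒰 U G ∧ t * z₀ = x' * tB G * x'⁻¹ := by
    rcases hor with h | h
    · exact ⟨R, x, hx, hP, by rw [h, ht]⟩
    · exact ⟨R', x * g, Subgroup.mul_mem _ hx hg, hP', by rw [h, hs']; group⟩
  have hcom : t * z₀ * t = t * (t * z₀) := by rw [mul_assoc, ← htz]
  have hx'K : IsKron x' := eigen C hs3 hne h𝒰 hfine hG.inv hU hG.split hx' hzQ hRr
    (by rw [← he, ht]; exact isKron_mul (isKron_kr 1 R) hz₀K) (by rw [← he, ← ht]; exact hcom)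
  obtain ⟨A, B, hAB⟩ := exists_kr hx'K
  subst hAB
  rw [kr_conj_tB] at he
  have hG₁ := invol_of_eq C ha hG.inv hx' (kr_conj_tB A B G)
  obtain ⟨G₁, hG₁e⟩ : ∃ G₁, G₁ = B * G * B⁻¹ := ⟨_, rfl⟩
  rw [← hG₁e] at he hG₁
  have hz₀e : z₀ = tB (R * G₁) := by rw [tB_mul, ← he, ← ht, ← mul_assoc, htt, one_mul]
  have hRG : R * G₁ = G₁ * R := tB_inj C ha (α := α) (M := M) (f := f) (f₁ := f₁) (by
    rw [tB_mul, tB_mul, ← ht, ← he]; exact hcom.symm)
  have hG' : Invol Q 𝒰 (R * G₁) := ⟨Subgroup.mul_mem _ hP.inv.iso hG₁.iso, by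
      nth_rewrite 2 [hRG]
      rw [mul_assoc, ← mul_assoc G₁ G₁, hG₁.sq, one_mul, hP.inv.sq],
    fun V hV u hu => by rw [mv_mul]; exact hP.inv.pres V hV _ (hG₁.pres V hV u hu)⟩
  by_cases hsp : ∃ V ∈ 𝒰, Split (R * G₁) V
  · obtain ⟨V, hV, hVs⟩ := hsp
    exact cent_invol C h𝒰 hfine hG' hV hVs hsH (by rw [← hz₀e]; exact hsz)
  exfalso
  have hinvB : kr A⁻¹ B⁻¹ ∈ stabH f₁ M 𝒰 := kr_inv A B ▸ Subgroup.inv_mem _ hx'
  have hothers : ∀ V ∈ 𝒰, V ≠ U → ∀ u ∈ V, mv (R * G₁) u = u := fun V hV hVU u hu => by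
    rw [mv_mul, hG₁e, mv_mul, mv_mul, hG.fix V hV hVU _ (kr_pres C ha hinvB hV hu), mv_mv_inv,
      hP.fix V hV hVU u hu]
  by_cases hUfix : ∀ u ∈ U, mv (R * G₁) u = u
  · refine hz₁ ?_
    have hall : (⊤ : Submodule F (β → F)) ≤ LinearMap.ker (mvLin (R * G₁) - LinearMap.id) :=
      h𝒰.sup ▸ sSup_le fun V hV u hu => by
        rw [LinearMap.mem_ker, LinearMap.sub_apply, Matrix.toLin'_apply, LinearMap.id_apply, sub_eq_zero]
        by_cases hVU : V = U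
        · exact hUfix u (hVU ▸ hu)
        · exact hothers V hV hVU u hu
    rw [hz₀e, show R * G₁ = 1 from ext_mv fun p => by
      have := hall (Submodule.mem_top (x := p))
      rw [LinearMap.mem_ker, LinearMap.sub_apply, Matrix.toLin'_apply, LinearMap.id_apply, sub_eq_zero] at this
      rw [mv_one]; exact this, tB_one]
  have hUneg : ∀ u ∈ U, mv (R * G₁) u = -u := by
    by_contra hno
    push Not at hno hUfix
    exact hsp ⟨U, hU, hUfix, hno⟩
  obtain ⟨K, hK, hKm⟩ := hG.neg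
  obtain ⟨-, hd⟩ := Orth.nondeg_perp hQ h2 (h𝒰.nondeg U hU) hzU hzQ
  have hle : (U ⊓ Orth.orth hQ (Submodule.span F {z})).map (mvLin B⁻¹) ≤ K := by
    rintro _ ⟨y, hy, rfl⟩
    refine hKm _ ?_
    rw [Matrix.toLin'_apply]
    show mv G (mv B⁻¹ y) = -mv B⁻¹ y
    have h1 : mv G₁ y = -y := by
      rw [show G₁ = R * (R * G₁) by rw [← mul_assoc, hP.inv.sq, one_mul], mv_mul, hUneg y hy.1, mv_neg,
        Orth.isRefl_fix hRr (by rw [Orth.pol_comm]; exact hy.2 z (Submodule.mem_span_singleton_self z))]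
    rw [hG₁e, mv_mul, mv_mul] at h1
    rw [← mv_neg, ← h1, mv_inv_mv]
  have h4 := Submodule.finrank_mono hle
  rw [← (Submodule.equivMapOfInjective (mvLin B⁻¹) (fun p q h => mv_inj B⁻¹ (by
    rw [Matrix.toLin'_apply, Matrix.toLin'_apply] at h; exact h)) (U ⊓ Orth.orth hQ (Submodule.span F {z}))).finrank_eq] at h4
  omega

/-- Every member keeping the pieces is a product. -/
theorem all_kron [Finite F] (C : Ctx f f₁ Q M) (hs : 4 ≤ Fintype.card α)
    (hne : M ≠ preserving (Units.coeHom (Matrix (α × β) (α × β) F)) f) {𝒰 : Set (Submodule F (β → F))}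
    (h𝒰 : Good Q 𝒰) {g : GL (α × β) F} (hg : g ∈ stabH f₁ M 𝒰) : IsKron g := by
  have hQ := C.hQ
  haveI : Fintype F := Fintype.ofFinite F
  generalize hn : Set.ncard {W : Submodule F (β → F) | ∃ V ∈ 𝒰, W ≤ V} = n
  induction n using Nat.strong_induction_on generalizing 𝒰 g with
  | _ n ih =>
    by_cases hsmall : ∀ U ∈ 𝒰, Module.finrank F U + 2 ≤ Fintype.card α
    · exact kron_of_small C (by omega) hne h𝒰.sup hsmall hg.1 hg.2
    push Not at hsmall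
    obtain ⟨U₀, hU₀, hbig⟩ := hsmall
    refine step C hs hne h𝒰 ?_ hU₀ hbig hg
    intro U hU U₁ h₁U h₁n h₁b h₁ne x hx hxk
    obtain ⟨U₂, hU₂⟩ : ∃ U₂, U₂ = U ⊓ Orth.orth hQ U₁ := ⟨_, rfl⟩
    have hsum : U ≤ U₁ ⊔ U₂ := fun u hu => by
      obtain ⟨p, hp, hup⟩ := Orth.exists_proj hQ h₁n u
      rw [show u = p + (u - p) by abel]
      exact Submodule.add_mem _ (Submodule.mem_sup_left hp)
        (Submodule.mem_sup_right (hU₂ ▸ ⟨U.sub_mem hu (h₁U hp), hup⟩))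
    have h₂U : U₂ ≤ U := hU₂ ▸ inf_le_left
    have h12 : ∀ u ∈ U₁, ∀ v ∈ U₂, Orth.pol Q u v = 0 := fun u hu v hv => (hU₂ ▸ hv).2 u hu
    have h₂b : U₂ ≠ ⊥ := fun h => h₁ne (le_antisymm h₁U (le_trans hsum (by rw [h, sup_bot_eq])))
    have self_bot : ∀ W : Submodule F (β → F), Orth.Nondeg Q W → (∀ a ∈ W, ∀ b ∈ W, Orth.pol Q a b = 0) → W = ⊥ :=
      fun W hW h => (Submodule.eq_bot_iff _).2 fun u hu => hW u hu fun w hw => h w hw u hu
    obtain ⟨𝒱, h𝒱⟩ : ∃ 𝒱 : Set (Submodule F (β → F)), 𝒱 = (𝒰 \ {U}) ∪ {U₁, U₂} := ⟨_, rfl⟩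
    have hmem : ∀ V ∈ 𝒱, (V ∈ 𝒰 ∧ V ≠ U) ∨ V = U₁ ∨ V = U₂ := fun V hV => by
      rw [h𝒱] at hV
      rcases hV with ⟨h, h'⟩ | h
      · exact Or.inl ⟨h, h'⟩
      · exact Or.inr h
    have hnd2 : Orth.Nondeg Q U₂ := hU₂ ▸ Orth.nondeg_inf_orth hQ h₁n (h𝒰.nondeg U hU) h₁U
    have hgood : Good Q 𝒱 := by
      refine ⟨?_, fun V hV => ?_, fun V hV => ?_, fun V hV W hW hVW a ha b hb => ?_⟩
      · refine top_le_iff.1 (h𝒰.sup.symm.le.trans (sSup_le fun V hV => ?_))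
        by_cases hVU : V = U
        · subst hVU
          exact hsum.trans (sup_le (le_sSup (by simp [h𝒱])) (le_sSup (by simp [h𝒱])))
        · exact le_sSup (by simp [h𝒱, hV, hVU])
      · rcases hmem V hV with ⟨h, -⟩ | rfl | rfl
        exacts [h𝒰.nondeg V h, h₁n, hnd2]
      · rcases hmem V hV with ⟨h, -⟩ | rfl | rfl
        exacts [h𝒰.ne_bot V h, h₁b, h₂b]
      · rcases hmem V hV with ⟨hV', hVU⟩ | rfl | rfl <;> rcases hmem W hW with ⟨hW', hWU⟩ | rfl | rfl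
        · exact h𝒰.orth V hV' W hW' hVW a ha b hb
        · exact h𝒰.orth V hV' U hU hVU a ha b (h₁U hb)
        · exact h𝒰.orth V hV' U hU hVU a ha b (h₂U hb)
        · exact h𝒰.orth U hU W hW' (Ne.symm hWU) a (h₁U ha) b hb
        · exact absurd rfl hVW
        · exact h12 a ha b hb
        · exact h𝒰.orth U hU W hW' (Ne.symm hWU) a (h₂U ha) b hb
        · rw [Orth.pol_comm]; exact h12 b hb a ha
        · exact absurd rfl hVW
    have hxk' : Keeps f₁ {U₁} x⁻¹ := Keeps.inv fun V hV => by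
      rw [Set.mem_singleton_iff] at hV; subst hV; exact hxk
    have hx' : x ∈ stabH f₁ M 𝒱 := ⟨hx.1, fun V hV y hy => by
      rcases hmem V hV with ⟨h, -⟩ | rfl | rfl
      · exact hx.2 V h y hy
      · exact hxk y hy
      · refine mem_tsp.2 fun a => hU₂ ▸ ⟨mem_tsp.1 (hx.2 U hU y (mem_tsp.2 fun b => h₂U (mem_tsp.1 hy b))) a, ?_⟩
        intro l hl
        rw [Orth.pol_comm, ← f_ten C, C.iso_inv hx.1, C.hf.skew, neg_eq_zero]
        exact f_tsp_zero C h12 (hxk' U₁ rfl _ (ten_mem_tsp C a hl)) hy⟩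
    refine ih _ ?_ hgood hx' rfl
    subst hn
    refine Set.ncard_lt_ncard ((Set.ssubset_iff_of_subset ?_).2 ⟨U, ⟨U, hU, le_rfl⟩, ?_⟩) (Set.toFinite _)
    · rintro W ⟨V, hV, hWV⟩
      rcases hmem V hV with ⟨h, -⟩ | rfl | rfl
      exacts [⟨V, h, hWV⟩, ⟨U, hU, hWV.trans h₁U⟩, ⟨U, hU, hWV.trans h₂U⟩]
    · rintro ⟨V, hV, hUV⟩
      rcases hmem V hV with ⟨h, hVU⟩ | rfl | rfl
      · exact h𝒰.ne_bot U hU (self_bot U (h𝒰.nondeg U hU) fun a ha b hb =>
          h𝒰.orth U hU V h (Ne.symm hVU) a ha b (hUV hb))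
      · exact h₁ne (le_antisymm h₁U hUV)
      · exact h₁b (self_bot U₁ h₁n fun a ha b hb => h12 a ha b (hUV (h₁U hb)))

/-- Maximality in coordinates. -/
theorem maximal_std [Fintype F] (hf : Geo.IsSymplecticForm f) (h₁ : Geo.IsSymplecticForm f₁)
    (hQ : Geo.IsNondegenerateQuadraticForm Q) (hpol : ∀ u w v z, f (ten u w) (ten v z) = f₁ u v * Orth.pol Q w z)
    (h2 : (2 : F) ≠ 0) (hb : 4 ≤ Fintype.card β) (ha : 4 ≤ Fintype.card α)
    {K : Subgroup (GL (α × β) F)} (hK : ∀ g, g ∈ K ↔ IsKron g) :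
    Geo.IsMaximalIn (preserving (Units.coeHom (Matrix (α × β) (α × β) F)) f)
      (K ⊓ preserving (Units.coeHom (Matrix (α × β) (α × β) F)) f) := by
  refine ⟨lt_of_le_of_ne inf_le_right fun heq => ?_, fun M hM1 hM2 => ?_⟩
  · have C : Ctx f f₁ Q (preserving (Units.coeHom (Matrix (α × β) (α × β) F)) f) :=
      ⟨hf, h₁, hQ, hpol, h2, hb, le_rfl, fun x _ hx' => hx'⟩
    obtain ⟨e, d, he, hde⟩ := exists_pair_alpha C (by omega)
    obtain ⟨w, w', _, hwQ, -, hww', -, -, -⟩ := exists_hyp C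
    have hg := stv_mem hf (ten e w) 1
    rw [← heq] at hg
    obtain ⟨A, G, hAG⟩ := mv_kron_ten ((hK _).1 hg.1)
    have hw : w ≠ 0 := fun h => by rw [h, Orth.pol_zero_left hQ] at hww'; exact zero_ne_one hww'
    have hed : f₁ e d = -1 := by rw [h₁.skew, hde]
    have ex : ∀ p, mv (stv hf (ten e w) 1) (ten d p) = ten d p + Orth.pol Q p w • ten e w := fun p => by
      rw [mv_stv, hpol, hde, one_mul, one_mul]
    have e1 := congrArg (piv f₁ d) ((hAG d w).symm.trans (ex w))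
    have e2 := congrArg (piv f₁ d) ((hAG d w').symm.trans (ex w'))
    rw [Orth.pol_self hQ, hwQ, mul_zero, zero_smul, add_zero, piv_ten C, piv_ten C, h₁.alternating, zero_smul] at e1
    have hAd : f₁ (mv A d) d = 0 := (smul_eq_zero.1 e1).resolve_right fun h =>
      hw (mv_inj G (h.trans (mv_zero G).symm))
    rw [map_add, map_smul, piv_ten C, piv_ten C, piv_ten C, hAd, h₁.alternating, hed, Orth.pol_comm, hww',
      zero_smul, zero_smul, zero_add, one_smul, neg_one_smul, eq_comm, neg_eq_zero] at e2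
    exact hw e2
  · by_cases hne : M = preserving (Units.coeHom (Matrix (α × β) (α × β) F)) f
    · exact Or.inr hne
    refine Or.inl (le_antisymm (fun g hg => ⟨(hK g).2 ?_, hM2 hg⟩) hM1)
    have C : Ctx f f₁ Q M := ⟨hf, h₁, hQ, hpol, h2, hb, hM2, fun x hx hx' => hM1 ⟨(hK x).2 hx, hx'⟩⟩
    refine all_kron C ha hne (𝒰 := {⊤}) ⟨by simp, ?_, ?_, ?_⟩ ⟨hg, ?_⟩
    · rintro U rfl; exact Orth.nondeg_top hQ
    · rintro U rfl h
      have h4 := congrArg (fun W : Submodule F (β → F) => Module.finrank F W) h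
      simp only [finrank_top, finrank_bot, Module.finrank_pi] at h4
      omega
    · rintro U rfl V rfl h
      exact absurd rfl h
    · rintro U rfl x _
      exact mem_tsp.2 fun a => Submodule.mem_top

end Cfsg.Agent.SympTensorGen
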